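import Mathlib
import Cfsg.Agent.Lib.Transfer.Frobenius
import Cfsg.Agent.Lib.SylowNumbers.Basic
import Cfsg.Agent.Lib.OddLocal.CoprimeFix

/-!
# A normal `p`-complement criterion for abelian Sylow subgroups

If `p` is the smallest prime divisor of `#G`, a Sylow `p`-subgroup is abelian and `p ^ 2` divides
no class size of an element of order prime to `p`, then `G` has a normal `p`-complement.  The proof
is a count: otherwise every element would be counted twice among fewer than `2 |G|` pairs.
-/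

set_option autoImplicit false

namespace Cfsg.Agent.Lib.SquarefreeClass

open Subgroup
open Cfsg.Agent.Lib.Transfer.PResidual
open scoped commutatorElement

universe u

variable {G : Type u} [Group G] [Finite G] {p : ℕ} [hp : Fact p.Prime]

/-- An element of a quotient of order prime to `p` lifts to one of order prime to `p`. -/
theorem exists_lift_coprime {H : Type u} [Group H] (f : G →* H) (hf : Function.Surjective f)
    {y : H} (hy : (orderOf y).Coprime p) : ∃ x : G, (orderOf x).Coprime p ∧ f x = y := by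
  obtain ⟨g, rfl⟩ := hf y
  obtain ⟨a, b, ha, hb, hab, -, ⟨k, hk⟩, hbp⟩ :=
    exists_pPart_mul_pPrimePart (p := p) g (isOfFinOrder_of_finite g)
  refine ⟨b, hbp, ?_⟩
  have h1 : f a = 1 := by
    rw [← orderOf_eq_one_iff]
    refine Nat.eq_one_of_dvd_coprimes (hy.pow_right k) ?_
      (orderOf_dvd_of_pow_eq_one (by rw [← map_pow, hk, map_one]))
    obtain ⟨m, rfl⟩ := mem_zpowers_iff.1 ha
    rw [map_zpow]
    exact orderOf_dvd_of_pow_eq_one (by
      rw [← zpow_natCast, ← zpow_mul, mul_comm, zpow_mul, zpow_natCast, pow_orderOf_eq_one, one_zpow])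
  rw [← hab, map_mul, h1, one_mul]

omit hp in
theorem index_centralizer_map_dvd {H : Type u} [Group H] (f : G →* H) (hf : Function.Surjective f)
    (x : G) : (centralizer ({f x} : Set H)).index ∣ (centralizer ({x} : Set G)).index := by
  refine dvd_trans (index_dvd_of_le ?_) (index_map_dvd (centralizer ({x} : Set G)) hf)
  rintro _ ⟨c, hc, rfl⟩
  rw [mem_centralizer_singleton_iff, ← map_mul, ← map_mul, mem_centralizer_singleton_iff.1 hc]

/-- A group with a central `p`-subgroup and `p`-nilpotent quotient is `p`-nilpotent. -/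
theorem hasNormalPComplement_of_central_quotient (Z : Subgroup G) [Z.Normal] (hZ : IsPGroup p Z)
    (hZc : Z ≤ center G) (h : HasNormalPComplement p (G ⧸ Z)) : HasNormalPComplement p G := by
  refine Transfer.Frobenius.hasNormalPComplement_of_forall_centralizes fun Q hQ _ y hy hyp => ?_
  set f := QuotientGroup.mk' Z
  have hc := Transfer.Frobenius.mem_centralizer_of_hasNormalPComplement h (hQ.map f)
    (g := f y) (le_normalizer_map f (mem_map_of_mem f hy)) (hyp.coprime_dvd_left (orderOf_map_dvd f y))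
  refine mem_centralizer_iff.2 fun q hq => ?_
  have h1 : ⁅y, q⁆ ∈ Z := by
    rw [← QuotientGroup.eq_one_iff]
    show f ⁅y, q⁆ = 1
    rw [map_commutatorElement, commutatorElement_eq_one_iff_mul_comm]
    exact (mem_centralizer_iff.1 hc _ (mem_map_of_mem f hq)).symm
  obtain ⟨k, hk⟩ := IsPGroup.iff_orderOf.1 hZ ⟨_, h1⟩
  rw [Subgroup.orderOf_mk] at hk
  exact (OddLocal.CoprimeFix.comm_of_fixed (k := ⁅y, q⁆)
    (by rw [commutatorElement_def]; group) (mem_center_iff.1 (hZc h1) y)
    (hk ▸ hyp.pow_right k)).symm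

/-- Conjugates of `a * b` with `b` a `p'`-element commuting with `τ`, for a fixed `a ∈ C(τ)`. -/
def pieces (p : ℕ) (a τ : G) : Set G :=
  {g | ∃ c b : G, (orderOf b).Coprime p ∧ b * τ = τ * b ∧ g = c * (a * b) * c⁻¹}

theorem ncard_pieces_le {τ a : G} (ha : ∀ d, d * τ = τ * d → d * a = a * d)
    (S : Sylow p G) (hS : (S : Subgroup G) ≤ centralizer ({τ} : Set G))
    (hC : HasNormalPComplement p (centralizer ({τ} : Set G))) :
    (pieces p a τ).ncard * Nat.card (S : Subgroup G) ≤ Nat.card G := by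
  set C := centralizer ({τ} : Set G) with hCdef
  obtain ⟨N, hN, hcompl⟩ := (hasNormalPComplement_iff_exists (S.subtype hS)).1 hC
  have hmem := mem_iff_coprime_of_isComplement' (S.subtype hS) N hcompl
  let f : (G ⧸ C) × N → G := fun x => x.1.out * (a * ((x.2 : C) : G)) * x.1.out⁻¹
  have hsub : pieces p a τ ⊆ Set.range f := by
    rintro g ⟨c, b, hb, hbτ, rfl⟩
    obtain ⟨d, hd⟩ := QuotientGroup.mk_out_eq_mul C c
    have hdτ : (d : G) * τ = τ * d := mem_centralizer_singleton_iff.1 d.2
    have hbC : b ∈ C := mem_centralizer_singleton_iff.2 hbτ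
    have hb' : (⟨b, hbC⟩ : C) ∈ N := (hmem _).2 (by rwa [Subgroup.orderOf_mk])
    refine ⟨((c : G ⧸ C), ⟨(d : C)⁻¹ * ⟨b, hbC⟩ * d, ?_⟩), ?_⟩
    · simpa using hN.conj_mem _ hb' (d : C)⁻¹
    · simp only [f, hd, Subgroup.coe_mul, Subgroup.coe_inv]
      calc c * d * (a * ((d : G)⁻¹ * b * d)) * (c * (d : G))⁻¹
          = c * ((d : G) * a * (d : G)⁻¹ * b) * c⁻¹ := by group
        _ = c * (a * b) * c⁻¹ := by rw [ha _ hdτ, mul_inv_cancel_right]
  have h1 : (pieces p a τ).ncard ≤ C.index * Nat.card N := by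
    refine (Set.ncard_le_ncard hsub (Set.toFinite _)).trans ?_
    rw [← Nat.card_coe_set_eq, Subgroup.index, ← Nat.card_prod]
    exact Finite.card_range_le f
  calc (pieces p a τ).ncard * Nat.card (S : Subgroup G)
      ≤ C.index * Nat.card N * Nat.card (S : Subgroup G) := Nat.mul_le_mul_right _ h1
    _ = C.index * (Nat.card N * Nat.card ((S.subtype hS : Sylow p C) : Subgroup C)) := by
        rw [mul_assoc, Sylow.coe_subtype, Nat.card_congr (subgroupOfEquivOfLe hS).toEquiv]
    _ = C.index * Nat.card C := by rw [hcompl.card_mul]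
    _ = Nat.card G := index_mul_card C

theorem hasNormalPComplement_of_abelian_aux : ∀ (n : ℕ) (G : Type u) [Group G] [Finite G],
    Nat.card G = n → (∀ r : ℕ, r.Prime → r ∣ Nat.card G → p ≤ r) →
    (∀ S : Sylow p G, IsMulCommutative (S : Subgroup G)) →
    (∀ y : G, (orderOf y).Coprime p → ¬ p ^ 2 ∣ (centralizer ({y} : Set G)).index) →
    HasNormalPComplement p G := by
  intro n
  induction n using Nat.strong_induction_on with
  | _ n ih =>
  intro G _ _ hn hmin hab hy
  obtain ⟨S⟩ : Nonempty (Sylow p G) := inferInstance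
  haveI := hab S
  by_cases hN : normalizer ((S : Subgroup G) : Set G) ≤ centralizer ((S : Subgroup G) : Set G)
  · exact ⟨S, _, inferInstance, MonoidHom.ker_transferSylow_isComplement' S hN⟩
  obtain ⟨n₀, hn₀, hn₀'⟩ := Set.not_subset.1 hN
  by_cases hc : p ∣ Nat.card (center G)
  · -- a central element of order `p`
    obtain ⟨⟨τ, hτc⟩, hτ⟩ := exists_prime_orderOf_dvd_card' p hc
    rw [Subgroup.orderOf_mk] at hτ
    haveI : (zpowers τ).Normal := ⟨fun z hz g => by
      rw [mem_center_iff.1 (zpowers_le.2 hτc hz) g, mul_inv_cancel_right]; exact hz⟩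
    have hτp : IsPGroup p (zpowers τ) :=
      IsPGroup.of_card (n := 1) (by rw [Nat.card_zpowers, hτ, pow_one])
    refine hasNormalPComplement_of_central_quotient (zpowers τ) hτp (zpowers_le.2 hτc) ?_
    set f := QuotientGroup.mk' (zpowers τ) with hf
    have hfs : Function.Surjective f := QuotientGroup.mk'_surjective _
    refine ih _ ?_ (G ⧸ zpowers τ) rfl ?_ ?_ ?_
    · rw [← hn, card_eq_card_quotient_mul_card_subgroup (zpowers τ), Nat.card_zpowers, hτ]
      exact lt_mul_of_one_lt_right Nat.card_pos hp.out.one_lt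
    · exact fun r hr hd => hmin r hr (hd.trans (card_quotient_dvd_card _))
    · intro T
      obtain ⟨T0, rfl⟩ := Sylow.mapSurjective_surjective hfs p T
      haveI := hab T0
      refine ⟨⟨?_⟩⟩
      rintro ⟨_, u, hu, rfl⟩ ⟨_, v, hv, rfl⟩
      apply Subtype.ext
      show f u * f v = f v * f u
      rw [← map_mul, ← map_mul]
      exact congrArg f (congrArg Subtype.val
        (IsMulCommutative.is_comm.comm (⟨u, hu⟩ : (T0 : Subgroup G)) ⟨v, hv⟩))
    · intro y hyp hd
      obtain ⟨x, hx, rfl⟩ := exists_lift_coprime f hfs hyp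
      exact hy x hx (hd.trans (index_centralizer_map_dvd f hfs x))
  -- centralizers of nontrivial elements of `S` are `p`-nilpotent
  have hSC : ∀ τ ∈ (S : Subgroup G), (S : Subgroup G) ≤ centralizer ({τ} : Set G) := fun τ hτ u hu =>
    mem_centralizer_singleton_iff.2 (congrArg Subtype.val
      (IsMulCommutative.is_comm.comm (⟨u, hu⟩ : (S : Subgroup G)) ⟨τ, hτ⟩))
  have hpel : ∀ τ ∈ (S : Subgroup G), τ ≠ 1 → τ ∉ center G := by
    intro τ hτ hτ1 hτc
    obtain ⟨k, hk⟩ := IsPGroup.iff_orderOf.1 S.2 ⟨τ, hτ⟩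
    rw [Subgroup.orderOf_mk] at hk
    refine hc ((dvd_pow_self p fun h0 => hτ1 ?_).trans (hk ▸ orderOf_dvd_natCard (center G) hτc))
    rw [h0, pow_zero] at hk
    exact orderOf_eq_one_iff.1 hk
  have hCτ : ∀ τ ∈ (S : Subgroup G), τ ≠ 1 →
      HasNormalPComplement p (centralizer ({τ} : Set G)) := by
    intro τ hτ hτ1
    set C := centralizer ({τ} : Set G) with hC
    refine ih _ ?_ C rfl (fun r hr hd => hmin r hr (hd.trans (card_subgroup_dvd_card C))) ?_ ?_
    · rw [← hn]
      refine lt_of_le_of_ne (card_le_card_group C) fun he => hpel τ hτ hτ1 ?_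
      exact mem_center_iff.2 fun g => mem_centralizer_singleton_iff.1
        ((eq_top_of_card_eq C he).symm ▸ mem_top g : g ∈ C)
    · intro T
      obtain ⟨R, hR⟩ := (T.2.map C.subtype).exists_le_sylow
      haveI := hab R
      refine ⟨⟨fun u v => Subtype.ext (Subtype.ext ?_)⟩⟩
      have := congrArg Subtype.val
        (IsMulCommutative.is_comm.comm (⟨_, hR ⟨u.1, u.2, rfl⟩⟩ : (R : Subgroup G))
          ⟨_, hR ⟨v.1, v.2, rfl⟩⟩)
      simpa using this
    · intro y hyp hd
      -- the centralizer of `τ y` contains a Sylow subgroup of the centralizer of `y`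
      have hτy : τ ∈ centralizer ({(y : G)} : Set G) :=
        mem_centralizer_singleton_iff.2 (mem_centralizer_singleton_iff.1 y.2).symm
      have hτp : IsPGroup p (zpowers τ) := S.2.to_le (zpowers_le.2 hτ)
      obtain ⟨T, hT⟩ := (hτp.comap_of_injective (centralizer ({(y : G)} : Set G)).subtype
        (subtype_injective _)).exists_le_sylow
      obtain ⟨R, hR⟩ := (T.2.map (centralizer ({(y : G)} : Set G)).subtype).exists_le_sylow
      haveI := hab R
      have hle : (T : Subgroup _).map (centralizer ({(y : G)} : Set G)).subtype ≤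
          (centralizer ({y} : Set C)).map C.subtype := by
        rintro _ ⟨u, hu, rfl⟩
        have hτR : τ ∈ (R : Subgroup G) := hR ⟨⟨τ, hτy⟩, hT (mem_zpowers τ), rfl⟩
        have huC : (u : G) ∈ C := mem_centralizer_singleton_iff.2 (congrArg Subtype.val
          (IsMulCommutative.is_comm.comm (⟨_, hR ⟨u, hu, rfl⟩⟩ : (R : Subgroup G)) ⟨τ, hτR⟩))
        exact ⟨⟨u, huC⟩, mem_centralizer_singleton_iff.2 (Subtype.ext
          (mem_centralizer_singleton_iff.1 u.2)), rfl⟩
      have h2 : p ^ 2 ∣ ((T : Subgroup _).map (centralizer ({(y : G)} : Set G)).subtype).index := by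
        refine dvd_trans ?_ (index_dvd_of_le hle)
        rw [index_map_subtype]
        exact dvd_mul_of_dvd_left hd _
      rw [index_map_subtype] at h2
      refine hy y (by rwa [Subgroup.orderOf_coe]) ?_
      exact (Nat.Coprime.pow_left 2 (hp.out.coprime_iff_not_dvd.2 T.not_dvd_index)).dvd_of_dvd_mul_left h2
  -- the normalizer acts on `S` semiregularly modulo the centralizer
  have hmove : ∀ τ ∈ (S : Subgroup G), τ ≠ 1 → n₀ * τ * n₀⁻¹ ≠ τ := by
    intro τ hτ hτ1 hfix
    refine hn₀' ?_
    obtain ⟨a, b, ha, hb, hab', -, ⟨k, hk⟩, hbp⟩ :=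
      exists_pPart_mul_pPrimePart (p := p) n₀ (isOfFinOrder_of_finite n₀)
    have hn₀C : n₀ ∈ centralizer ({τ} : Set G) :=
      mem_centralizer_singleton_iff.2 (mul_inv_eq_iff_eq_mul.1 hfix)
    have haS : a ∈ (S : Subgroup G) := by
      refine SylowNumbers.Basic.mem_sylow_of_mem_normalizer ?_ S (zpowers_le.2 hn₀ ha)
      obtain ⟨j, -, hj⟩ := (Nat.dvd_prime_pow hp.out).1 (orderOf_dvd_of_pow_eq_one hk)
      exact SylowNumbers.Basic.isPGroup_zpowers hj
    have hbC : b ∈ centralizer ({τ} : Set G) := zpowers_le.2 hn₀C hb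
    have hbS : (⟨b, hbC⟩ : centralizer ({τ} : Set G)) ∈
        normalizer (((S : Subgroup G).subgroupOf (centralizer ({τ} : Set G))) : Set _) := by
      rw [← subgroupOf_normalizer_eq (hSC τ hτ)]
      exact zpowers_le.2 hn₀ hb
    have hcent := Transfer.Frobenius.mem_centralizer_of_hasNormalPComplement (hCτ τ hτ hτ1)
      (S.2.comap_of_injective _ (subtype_injective _)) hbS (by rwa [Subgroup.orderOf_mk])
    rw [← hab']
    refine mul_mem (le_centralizer _ haS) ?_
    exact mem_centralizer_iff.2 fun u hu =>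
      congrArg Subtype.val (mem_centralizer_iff.1 hcent ⟨u, hSC τ hτ hu⟩ hu)
  -- `p ^ 2` divides the order of `S`
  obtain ⟨e, he⟩ := IsPGroup.iff_card.1 S.2
  have hS2 : 2 ≤ e := by
    by_contra hlt
    refine hn₀' (mem_centralizer_iff.2 fun u hu => ?_)
    have hcard : Nat.card (S : Subgroup G) = 1 ∨ Nat.card (S : Subgroup G) = p := by
      interval_cases e <;> simp_all
    rcases hcard with h1 | h1
    · have : u = 1 := by
        have := card_eq_one.1 h1 ▸ hu
        exact mem_bot.1 this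
      simp [this]
    · haveI : IsCyclic (S : Subgroup G) := isCyclic_of_prime_card h1
      let φ := (S : Subgroup G).normalizerMonoidHom
      have hord : orderOf (φ ⟨n₀, hn₀⟩) = 1 := by
        by_contra h1'
        obtain ⟨q, hq, hqd⟩ := Nat.exists_prime_and_dvd h1'
        have hq1 : q ∣ Nat.card G := hqd.trans ((orderOf_map_dvd φ _).trans (by
          rw [Subgroup.orderOf_mk]; exact orderOf_dvd_natCard n₀))
        have hq2 : q ∣ Nat.card (MulAut (S : Subgroup G)) := hqd.trans (orderOf_dvd_natCard _)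
        rw [IsCyclic.card_mulAut, h1, Nat.totient_prime hp.out] at hq2
        have h3 := Nat.le_of_dvd (Nat.sub_pos_of_lt hp.out.one_lt) hq2
        have := hp.out.two_le
        have h4 := hmin q hq hq1
        omega
      have := DFunLike.congr_fun (orderOf_eq_one_iff.1 hord) ⟨u, hu⟩
      have h2 : n₀ * u * n₀⁻¹ = u := congrArg Subtype.val this
      exact (mul_inv_eq_iff_eq_mul.1 h2).symm
  -- the count
  exfalso
  classical
  haveI := Fintype.ofFinite G
  haveI := Fintype.ofFinite (S : Subgroup G)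
  let I := {τ : (S : Subgroup G) // τ ≠ 1} × Bool
  let F : I → Set G := fun i => pieces p (if i.2 then ((i.1.1 : G)) else 1) (i.1.1 : G)
  have hF : ∀ i, (F i).ncard * Nat.card (S : Subgroup G) ≤ Nat.card G := by
    intro i
    refine ncard_pieces_le ?_ S (hSC _ i.1.1.2) (hCτ _ i.1.1.2 (fun h1 => i.1.2 (Subtype.ext h1)))
    intro d hd
    split_ifs
    · exact hd
    · simp
  have hcover : ∀ g : G, ∃ i : I, g ∈ F i := by
    intro g
    obtain ⟨a, b, -, -, hab', hcomm, ⟨k, hk⟩, hbp⟩ :=
      exists_pPart_mul_pPrimePart (p := p) g (isOfFinOrder_of_finite g)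
    by_cases ha : a = 1
    · -- `g` commutes with a nontrivial element of a Sylow subgroup
      have hd : p ∣ Nat.card (centralizer ({b} : Set G)) := by
        by_contra hnd
        refine hy b hbp ?_
        have h1 : p ^ 2 ∣ Nat.card G := (pow_dvd_pow p hS2).trans (he ▸ card_subgroup_dvd_card _)
        rw [← card_mul_index (centralizer ({b} : Set G))] at h1
        exact ((hp.out.coprime_iff_not_dvd.2 hnd).pow_left 2).dvd_of_dvd_mul_left h1
      obtain ⟨⟨t, ht⟩, ht'⟩ := exists_prime_orderOf_dvd_card' p hd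
      rw [Subgroup.orderOf_mk] at ht'
      obtain ⟨R, hR⟩ := (IsPGroup.of_card (n := 1)
        (by rw [Nat.card_zpowers, ht', pow_one]) : IsPGroup p (zpowers t)).exists_le_sylow
      obtain ⟨c, hc⟩ := MulAction.exists_smul_eq G S R
      obtain ⟨τ, hτ, rfl⟩ : ∃ τ ∈ (S : Subgroup G), c * τ * c⁻¹ = t := by
        have := hR (mem_zpowers t)
        rw [← hc, Sylow.smul_def] at this
        obtain ⟨τ, hτ, hτe⟩ := this
        exact ⟨τ, hτ, hτe⟩
      have hτ1 : (⟨τ, hτ⟩ : (S : Subgroup G)) ≠ 1 := fun h1 => by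
        have h0 : τ = 1 := congrArg Subtype.val h1
        rw [h0, mul_one, mul_inv_cancel, orderOf_one] at ht'
        exact hp.out.ne_one ht'.symm
      refine ⟨(⟨⟨τ, hτ⟩, hτ1⟩, false), c, c⁻¹ * b * c, ?_, ?_, ?_⟩
      · have : orderOf (c⁻¹ * b * c) = orderOf b := by
          simpa using orderOf_injective (MulAut.conj c⁻¹).toMonoidHom (MulAut.conj c⁻¹).injective b
        rwa [this]
      · have h1 := mem_centralizer_singleton_iff.1 ht
        calc c⁻¹ * b * c * τ = c⁻¹ * (b * (c * τ * c⁻¹)) * c := by group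
          _ = c⁻¹ * (c * τ * c⁻¹ * b) * c := by rw [h1]
          _ = τ * (c⁻¹ * b * c) := by group
      · simp only [Bool.false_eq_true, if_false, one_mul]
        rw [← hab', ha]; group
    · have hap : IsPGroup p (zpowers a) := by
        obtain ⟨j, -, hj⟩ := (Nat.dvd_prime_pow hp.out).1 (orderOf_dvd_of_pow_eq_one hk)
        exact SylowNumbers.Basic.isPGroup_zpowers hj
      obtain ⟨R, hR⟩ := hap.exists_le_sylow
      obtain ⟨c, hc⟩ := MulAction.exists_smul_eq G S R
      obtain ⟨τ, hτ, rfl⟩ : ∃ τ ∈ (S : Subgroup G), c * τ * c⁻¹ = a := by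
        have := hR (mem_zpowers a)
        rw [← hc, Sylow.smul_def] at this
        obtain ⟨τ, hτ, hτe⟩ := this
        exact ⟨τ, hτ, hτe⟩
      have hτ1 : (⟨τ, hτ⟩ : (S : Subgroup G)) ≠ 1 := fun h1 => by
        have h0 : τ = 1 := congrArg Subtype.val h1
        exact ha (by rw [h0]; group)
      refine ⟨(⟨⟨τ, hτ⟩, hτ1⟩, true), c, c⁻¹ * b * c, ?_, ?_, ?_⟩
      · have : orderOf (c⁻¹ * b * c) = orderOf b := by
          simpa using orderOf_injective (MulAut.conj c⁻¹).toMonoidHom (MulAut.conj c⁻¹).injective b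
        rwa [this]
      · calc c⁻¹ * b * c * τ = c⁻¹ * (b * (c * τ * c⁻¹)) * c := by group
          _ = c⁻¹ * (c * τ * c⁻¹ * b) * c := by rw [hcomm]
          _ = τ * (c⁻¹ * b * c) := by group
      · simp only [if_true]
        rw [← hab']; group
  -- and each element is covered twice
  have htwice : ∀ g : G, ∃ i j : I, i ≠ j ∧ g ∈ F i ∧ g ∈ F j := by
    intro g
    obtain ⟨⟨⟨⟨τ, hτ⟩, hτ1⟩, s⟩, c, b, hb, hbτ, hg⟩ := hcover g
    have hτ1' : τ ≠ 1 := fun h1 => hτ1 (Subtype.ext h1)
    have hτ' : n₀ * τ * n₀⁻¹ ∈ (S : Subgroup G) := (mem_normalizer_iff.1 hn₀ τ).1 hτ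
    have hτ'1 : (⟨_, hτ'⟩ : (S : Subgroup G)) ≠ 1 := fun h1 => hτ1'
      (conj_eq_one_iff.1 (congrArg Subtype.val h1))
    refine ⟨(⟨⟨τ, hτ⟩, hτ1⟩, s), (⟨⟨_, hτ'⟩, hτ'1⟩, s), ?_, ⟨c, b, hb, hbτ, hg⟩,
      c * n₀⁻¹, n₀ * b * n₀⁻¹, ?_, ?_, ?_⟩
    · intro heq
      exact hmove τ hτ hτ1' (congrArg (fun i : I => ((i.1.1 : (S : Subgroup G)) : G)) heq).symm
    · have : orderOf (n₀ * b * n₀⁻¹) = orderOf b :=
        orderOf_injective (MulAut.conj n₀).toMonoidHom (MulAut.conj n₀).injective b
      rwa [this]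
    · show n₀ * b * n₀⁻¹ * (n₀ * τ * n₀⁻¹) = n₀ * τ * n₀⁻¹ * (n₀ * b * n₀⁻¹)
      calc n₀ * b * n₀⁻¹ * (n₀ * τ * n₀⁻¹) = n₀ * (b * τ) * n₀⁻¹ := by group
        _ = n₀ * (τ * b) * n₀⁻¹ := by
          have hbτ' : b * τ = τ * b := hbτ
          rw [hbτ']
        _ = _ := by group
    · rw [hg]
      cases s <;> simp [mul_assoc]
  have h2 : 2 * Nat.card G ≤ ∑ i : I, (F i).ncard := by
    choose i j hij hi hj using htwice
    let φ : G × Bool → Σ k : I, F k := fun x =>
      if x.2 then ⟨i x.1, x.1, hi x.1⟩ else ⟨j x.1, x.1, hj x.1⟩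
    have hinj : Function.Injective φ := by
      rintro ⟨g, s⟩ ⟨g', s'⟩ h
      cases s <;> cases s' <;> simp only [φ, if_true, Bool.false_eq_true, if_false] at h
      all_goals
        have h1 := congrArg (fun z : Σ k : I, F k => (z.2 : G)) h
        simp only at h1
        subst h1
      · rfl
      · exact absurd (congrArg Sigma.fst h).symm (hij g)
      · exact absurd (congrArg Sigma.fst h) (hij g)
      · rfl
    have := Nat.card_le_card_of_injective φ hinj
    rw [Nat.card_prod, Nat.card_sigma, Nat.card_eq_fintype_card (α := Bool), Fintype.card_bool,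
      mul_comm] at this
    exact this
  have h3 : (∑ i : I, (F i).ncard) * Nat.card (S : Subgroup G) ≤ Fintype.card I * Nat.card G := by
    rw [Finset.sum_mul]
    refine (Finset.sum_le_sum fun i _ => hF i).trans ?_
    simp
  have h4 : Fintype.card I + 2 ≤ 2 * Nat.card (S : Subgroup G) := by
    rw [Fintype.card_prod, Fintype.card_bool, Fintype.card_subtype_compl,
      Nat.card_eq_fintype_card, Fintype.card_subtype_eq]
    have := Fintype.card_pos (α := (S : Subgroup G))
    omega
  have h5 := (Nat.mul_le_mul_right (Nat.card (S : Subgroup G)) h2).trans h3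
  have h6 := Nat.mul_le_mul_right (Nat.card G) h4
  have h7 : 0 < Nat.card G := Nat.card_pos
  nlinarith

/-- The criterion. -/
theorem hasNormalPComplement_of_abelian (hmin : ∀ r : ℕ, r.Prime → r ∣ Nat.card G → p ≤ r)
    (S : Sylow p G) (hab : IsMulCommutative (S : Subgroup G))
    (hy : ∀ y : G, (orderOf y).Coprime p → ¬ p ^ 2 ∣ (centralizer ({y} : Set G)).index) :
    HasNormalPComplement p G := by
  refine hasNormalPComplement_of_abelian_aux _ G rfl hmin (fun T => ?_) hy
  exact ⟨⟨fun a b => (S.equiv T).symm.injective (by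
    rw [map_mul, map_mul]; exact hab.is_comm.comm _ _)⟩⟩

end Cfsg.Agent.Lib.SquarefreeClass
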