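import Mathlib
import Cfsg.Agent.Lib.SquarefreeClass.Abelian
import Cfsg.Agent.Lib.TwoClassSizes.Tools
import Cfsg.Agent.Lib.Elem70.Basic
import Cfsg.Agent.Lib.PGroups.Frattini

/-!
# No class size divisible by `p ^ 2`, `p` smallest: normal `p`-complement

If a Sylow `p`-subgroup is not elementary abelian there is a nontrivial `z ∈ Φ(S) ∩ Z(S)`; every
element then commutes with a conjugate of `z`, so `z` is central by Jordan's lemma.
-/

set_option autoImplicit false

namespace Cfsg.Agent.Lib.SquarefreeClass

open Subgroup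
open Cfsg.Agent.Lib.Transfer.PResidual

universe u

variable {p : ℕ} [hp : Fact p.Prime]

theorem frattini_le_of_relIndex_dvd {S : Type u} [Group S] [Finite S] (hS : IsPGroup p S)
    {M : Subgroup S} (h : M.index ∣ p) : frattini S ≤ M := by
  rcases (Nat.dvd_prime hp.out).1 h with h1 | h1
  · rw [Subgroup.index_eq_one.1 h1]; exact le_top
  · refine frattini_le_coatom ⟨fun he => ?_, fun K hK => ?_⟩
    · rw [he, index_top] at h1; exact hp.out.ne_one h1.symm
    · have h2 := relIndex_mul_index hK.le
      rw [h1] at h2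
      rcases (Nat.dvd_prime hp.out).1 (Dvd.intro_left _ h2) with h3 | h3
      · exact Subgroup.index_eq_one.1 h3
      · rw [h3, mul_eq_right₀ hp.out.ne_zero, relIndex_eq_one] at h2
        exact absurd h2 hK.not_ge

theorem hasNormalPComplement_aux : ∀ (n : ℕ) (G : Type u) [Group G] [Finite G],
    Nat.card G = n → (∀ r : ℕ, r.Prime → r ∣ Nat.card G → p ≤ r) →
    (∀ y : G, ¬ p ^ 2 ∣ (centralizer ({y} : Set G)).index) →
    HasNormalPComplement p G := by
  intro n
  induction n using Nat.strong_induction_on with
  | _ n ih =>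
  intro G _ _ hn hmin hy
  obtain ⟨S⟩ : Nonempty (Sylow p G) := inferInstance
  by_cases hΦ : frattini (S : Subgroup G) = ⊥
  · refine hasNormalPComplement_of_abelian hmin S ?_ fun y _ => hy y
    exact ((PGroups.frattini_eq_bot_iff S.2).1 hΦ).1 |> fun h => ⟨⟨fun a b =>
      congrArg Subtype.val (h.is_comm.comm (⟨a, trivial⟩ : (⊤ : Subgroup (S : Subgroup G))) ⟨b, trivial⟩)⟩⟩
  have hne := PGroups.normal_inf_center_ne_bot S.2 (frattini (S : Subgroup G)) hΦ
  obtain ⟨⟨z, hzS⟩, ⟨hzΦ, hzc⟩, hz1⟩ :
      ∃ w : (S : Subgroup G), (w ∈ frattini (S : Subgroup G) ∧ w ∈ center _) ∧ w ≠ 1 := by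
    by_contra hcon
    push Not at hcon
    exact hne ((eq_bot_iff_forall _).2 fun w hw => hcon w hw)
  have hz1' : z ≠ 1 := fun h => hz1 (Subtype.ext h)
  have hSz : (S : Subgroup G) ≤ centralizer ({z} : Set G) := fun s hs =>
    mem_centralizer_singleton_iff.2 (congrArg Subtype.val (mem_center_iff.1 hzc ⟨s, hs⟩))
  -- every element commutes with a conjugate of `z`
  have htop : centralizer ({z} : Set G) = ⊤ := by
    refine Elem70.eq_top_of_forall_conj _ fun g => ?_
    obtain ⟨R, -, hR⟩ := TwoClassSizes.exists_sylow_inf (p := p)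
      (centralizer ({g} : Set G)) IsPGroup.of_bot bot_le
    obtain ⟨c, rfl⟩ := MulAction.exists_smul_eq G S R
    refine ⟨c, ?_⟩
    have hidx : ((centralizer ({c⁻¹ * g * c} : Set G)).subgroupOf (S : Subgroup G)).index ∣ p := by
      -- transport the index bound to `S`
      have hmap : ((S : Subgroup G) ⊓ centralizer ({c⁻¹ * g * c} : Set G)).map
          (MulAut.conj c).toMonoidHom =
            ((c • S : Sylow p G) : Subgroup G) ⊓ centralizer ({g} : Set G) := by
        ext y
        constructor
        · rintro ⟨t, ⟨ht, htc⟩, rfl⟩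
          refine ⟨⟨t, ht, rfl⟩, mem_centralizer_singleton_iff.2 ?_⟩
          have h1 := mem_centralizer_singleton_iff.1 htc
          calc c * t * c⁻¹ * g = c * (t * (c⁻¹ * g * c)) * c⁻¹ := by group
            _ = c * (c⁻¹ * g * c * t) * c⁻¹ := by rw [h1]
            _ = g * (c * t * c⁻¹) := by group
        · rintro ⟨⟨t, ht, rfl⟩, htc⟩
          refine ⟨t, ⟨ht, mem_centralizer_singleton_iff.2 ?_⟩, rfl⟩
          have h1 : c * t * c⁻¹ * g = g * (c * t * c⁻¹) := mem_centralizer_singleton_iff.1 htc
          calc t * (c⁻¹ * g * c) = c⁻¹ * (c * t * c⁻¹ * g) * c := by group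
            _ = c⁻¹ * (g * (c * t * c⁻¹)) * c := by rw [h1]
            _ = c⁻¹ * g * c * t := by group
      have e1 : Nat.card ((S : Subgroup G) ⊓ centralizer ({c⁻¹ * g * c} : Set G) : Subgroup G) =
          p ^ (Nat.card (centralizer ({g} : Set G))).factorization p := by
        rw [← hR, ← hmap, card_map_of_injective (MulAut.conj c).injective]
      have e2 := card_mul_index (((centralizer ({c⁻¹ * g * c} : Set G))).subgroupOf (S : Subgroup G))
      rw [← inf_subgroupOf_left,
        Nat.card_congr (subgroupOfEquivOfLe inf_le_left).toEquiv, e1, S.card_eq_multiplicity,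
        ← card_mul_index (centralizer ({g} : Set G)),
        Nat.factorization_mul Finite.card_pos.ne' Subgroup.index_ne_zero_of_finite,
        Finsupp.add_apply, pow_add] at e2
      rw [← inf_subgroupOf_left, Nat.eq_of_mul_eq_mul_left (Nat.pow_pos hp.out.pos) e2]
      refine (pow_dvd_pow p ?_).trans (pow_one p).dvd
      by_contra hlt
      exact hy g ((hp.out.pow_dvd_iff_le_factorization Subgroup.index_ne_zero_of_finite).2 (by omega))
    have hzg : z ∈ centralizer ({c⁻¹ * g * c} : Set G) := by
      have := frattini_le_of_relIndex_dvd S.2 hidx hzΦ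
      rwa [mem_subgroupOf] at this
    exact mem_centralizer_singleton_iff.2 (mem_centralizer_singleton_iff.1 hzg).symm
  have hzc' : z ∈ center G := mem_center_iff.2 fun g =>
    mem_centralizer_singleton_iff.1 (htop.symm ▸ mem_top g : g ∈ centralizer ({z} : Set G))
  haveI : (zpowers z).Normal := ⟨fun w hw g => by
    rw [mem_center_iff.1 (zpowers_le.2 hzc' hw) g, mul_inv_cancel_right]; exact hw⟩
  refine hasNormalPComplement_of_central_quotient (zpowers z) (S.2.to_le (zpowers_le.2 hzS))
    (zpowers_le.2 hzc') ?_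
  have hfs := QuotientGroup.mk'_surjective (zpowers z)
  refine ih _ ?_ (G ⧸ zpowers z) rfl (fun r hr hd => hmin r hr (hd.trans (card_quotient_dvd_card _))) ?_
  · rw [← hn, card_eq_card_quotient_mul_card_subgroup (zpowers z)]
    refine lt_mul_of_one_lt_right Nat.card_pos ?_
    rw [Nat.card_zpowers]
    have := orderOf_pos z
    have : orderOf z ≠ 1 := fun h => hz1' (orderOf_eq_one_iff.1 h)
    omega
  · intro y hd
    obtain ⟨x, rfl⟩ := hfs y
    exact hy x (hd.trans (index_centralizer_map_dvd _ hfs x))

/-- If `p` is the smallest prime divisor of `#G` and `p ^ 2` divides no class size then `G` has a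
normal `p`-complement. -/
theorem hasNormalPComplement {G : Type u} [Group G] [Finite G]
    (hmin : ∀ r : ℕ, r.Prime → r ∣ Nat.card G → p ≤ r)
    (hy : ∀ y : G, ¬ p ^ 2 ∣ (centralizer ({y} : Set G)).index) : HasNormalPComplement p G :=
  hasNormalPComplement_aux _ G rfl hmin hy

omit hp in
theorem relIndex_centralizer_dvd {G : Type u} [Group G] [Finite G] (N : Subgroup G) [N.Normal] (x : N) :
    (centralizer ({x} : Set N)).index ∣ (centralizer ({(x : G)} : Set G)).index := by
  have : centralizer ({x} : Set N) = (centralizer ({(x : G)} : Set G)).subgroupOf N := by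
    ext y
    rw [mem_subgroupOf, mem_centralizer_singleton_iff, mem_centralizer_singleton_iff, Subtype.ext_iff]
    rfl
  rw [this]
  exact SylowNumbers.Basic.relIndex_dvd_index_of_normal_right _ N

omit hp in
theorem isSolvable_aux : ∀ (n : ℕ) (G : Type u) [Group G] [Finite G],
    Nat.card G = n → (∀ x : G, Squarefree (centralizer ({x} : Set G)).index) →
    Group.IsSolvable G := by
  intro n
  induction n using Nat.strong_induction_on with
  | _ n ih =>
  intro G _ _ hn hsq
  rcases subsingleton_or_nontrivial G with hs | hs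
  · exact inferInstance
  have h1 : Nat.card G ≠ 1 := (Finite.one_lt_card (α := G)).ne'
  haveI : Fact (Nat.card G).minFac.Prime := ⟨Nat.minFac_prime h1⟩
  set q := (Nat.card G).minFac
  obtain ⟨S, N, hN, hc⟩ := hasNormalPComplement (p := q)
    (fun r hr hd => Nat.minFac_le_of_dvd hr.two_le hd)
    (fun y hd => (Fact.out : q.Prime).not_isUnit
      (hsq y q ((pow_two q).symm ▸ hd)))
  haveI : Group.IsSolvable N := by
    refine ih _ ?_ N rfl fun x => (hsq x).squarefree_of_dvd (relIndex_centralizer_dvd N x)
    rw [← hn, ← hc.card_mul]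
    refine lt_mul_of_one_lt_right Nat.card_pos ?_
    have : q ∣ Nat.card (S : Subgroup G) := S.dvd_card_of_dvd_card (Nat.minFac_dvd _)
    exact lt_of_lt_of_le (Fact.out : q.Prime).one_lt (Nat.le_of_dvd Nat.card_pos this)
  haveI : Group.IsNilpotent (G ⧸ N) :=
    (IsPGroup.of_card (n := (Nat.card G).factorization q) (by
      rw [← Subgroup.index, hc.symm.index_eq_card, S.card_eq_multiplicity]) :
        IsPGroup q (G ⧸ N)).isNilpotent
  exact Group.isSolvable_of_ker_le_range N.subtype (QuotientGroup.mk' N) (by simp)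

/-- A finite group with square-free class sizes is solvable. -/
theorem isSolvable {G : Type u} [Group G] [Finite G]
    (hsq : ∀ x : G, Squarefree (centralizer ({x} : Set G)).index) : Group.IsSolvable G :=
  isSolvable_aux _ G rfl hsq

end Cfsg.Agent.Lib.SquarefreeClass
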