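import Mathlib
import Cfsg.Agent.Lib.SquarefreeClass.General
import Cfsg.Agent.Lib.Supersolvable.Huppert
import Cfsg.Agent.Lib.Cores.MinNormal

/-!
# Solvable groups with square-free classes of primary elements are supersolvable
-/

set_option autoImplicit false

namespace Cfsg.Agent.Lib.SquarefreeClass

open Subgroup
open scoped commutatorElement

universe u

/-- All elements of prime power order have square-free class size. -/
def PrimarySquarefree (G : Type u) [Group G] : Prop :=
  ∀ x : G, (∃ (r : ℕ) (k : ℕ), r.Prime ∧ orderOf x = r ^ k) →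
    Squarefree (centralizer ({x} : Set G)).index

variable {G : Type u} [Group G] [Finite G]

theorem exists_lift_primary {H : Type u} [Group H] (f : G →* H) (hf : Function.Surjective f)
    {y : H} {r k : ℕ} (hr : r.Prime) (hy : orderOf y = r ^ k) :
    ∃ (x : G) (j : ℕ), orderOf x = r ^ j ∧ f x = y := by
  haveI := Fact.mk hr
  obtain ⟨g, rfl⟩ := hf y
  obtain ⟨a, b, -, hb, hab, -, ⟨i, hi⟩, hbp⟩ :=
    Transfer.PResidual.exists_pPart_mul_pPrimePart (p := r) g (isOfFinOrder_of_finite g)
  obtain ⟨j, -, hj⟩ := (Nat.dvd_prime_pow hr).1 (orderOf_dvd_of_pow_eq_one hi)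
  refine ⟨a, j, hj, ?_⟩
  have h1 : f b = 1 := by
    rw [← orderOf_eq_one_iff]
    refine Nat.eq_one_of_dvd_coprimes (hbp.pow_right k) (orderOf_map_dvd f b) ?_
    rw [← hy]
    obtain ⟨m, rfl⟩ := mem_zpowers_iff.1 hb
    rw [map_zpow]
    exact orderOf_dvd_of_pow_eq_one (by
      rw [← zpow_natCast, ← zpow_mul, mul_comm, zpow_mul, zpow_natCast, pow_orderOf_eq_one, one_zpow])
  rw [← hab, map_mul, h1, mul_one]

theorem PrimarySquarefree.quotient (h : PrimarySquarefree G) (N : Subgroup G) [N.Normal] :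
    PrimarySquarefree (G ⧸ N) := by
  intro y ⟨r, k, hr, hy⟩
  obtain ⟨x, j, hx, rfl⟩ := exists_lift_primary _ (QuotientGroup.mk'_surjective N) hr hy
  exact (h x ⟨r, j, hr, hx⟩).squarefree_of_dvd
    (index_centralizer_map_dvd _ (QuotientGroup.mk'_surjective N) x)

theorem PrimarySquarefree.subgroup (h : PrimarySquarefree G) (N : Subgroup G) [N.Normal] :
    PrimarySquarefree N := by
  intro y ⟨r, k, hr, hy⟩
  exact (h y ⟨r, k, hr, by rw [Subgroup.orderOf_coe]; exact hy⟩).squarefree_of_dvd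
    (relIndex_centralizer_dvd N y)

theorem eq_prime_of_dvd_squarefree {q k n : ℕ} (hq : q.Prime) (hn : Squarefree n) (h : q ^ k ∣ n) :
    k ≤ 1 := by
  by_contra hk
  refine hq.not_isUnit (hn q (dvd_trans ?_ h))
  rw [← pow_two]
  exact pow_dvd_pow q (by omega)

theorem isSupersolvable_aux : ∀ (n : ℕ) (G : Type u) [Group G] [Finite G],
    Nat.card G = n → Group.IsSolvable G → PrimarySquarefree G → Cfsg.IsSupersolvable G := by
  intro n
  induction n using Nat.strong_induction_on with
  | _ n ih =>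
  intro G _ _ hn hsol h
  haveI := hsol
  rcases subsingleton_or_nontrivial G with hs | hs
  · exact Supersolvable.of_subsingleton
  refine Supersolvable.of_index_prime fun M hM => ?_
  obtain ⟨N, hN, hN1, hmin⟩ := Cores.MinNormal.exists_minimal (G := G)
  obtain ⟨hNab, q, hq, hNq⟩ := Cores.MinNormal.elementary_of_solvable hN1 hmin
  haveI := Fact.mk hq
  have hlt : ∀ K : Subgroup G, K.Normal → K ≠ ⊥ → Nat.card (G ⧸ K) < n := by
    intro K hK hK1
    rw [← hn, card_eq_card_quotient_mul_card_subgroup K]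
    exact lt_mul_of_one_lt_right Nat.card_pos
      ((K.one_lt_card_iff_ne_bot).2 hK1)
  have hquot : ∀ K : Subgroup G, K.Normal → K ≠ ⊥ → K ≤ M → M.index.Prime := by
    intro K hK hK1 hKM
    have hker : (QuotientGroup.mk' K).ker ≤ M := by rwa [QuotientGroup.ker_mk']
    rw [← index_map_eq M (QuotientGroup.mk'_surjective K) hker]
    exact Supersolvable.index_prime
      (ih _ (hlt K hK hK1) _ rfl inferInstance (h.quotient K))
      _ (Supersolvable.isCoatom_map_of_ker_le (QuotientGroup.mk'_surjective K) hker hM)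
  by_cases hNM : N ≤ M
  · exact hquot N hN hN1 hNM
  have hcompl := Cores.MinNormal.isComplement'_of_not_le hM hmin hNM
  have hidx : M.index = Nat.card N := hcompl.index_eq_card
  have hsup : N ⊔ M = ⊤ := hcompl.sup_eq_top
  have hcomm : ∀ a ∈ N, ∀ b ∈ N, a * b = b * a := fun a ha b hb =>
    congrArg Subtype.val (hNab.is_comm.comm ⟨a, ha⟩ ⟨b, hb⟩)
  -- subgroups normalized by `M` and by `N` are normal
  have hnormal : ∀ K : Subgroup G, (∀ m ∈ M, ∀ k ∈ K, m * k * m⁻¹ ∈ K) →
      (∀ a ∈ N, ∀ k ∈ K, a * k * a⁻¹ ∈ K) → K.Normal := by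
    intro K hM' hN'
    refine ⟨fun k hk g => ?_⟩
    obtain ⟨a, ha, m, hm, rfl⟩ : ∃ a ∈ N, ∃ m ∈ M, a * m = g := by
      have : g ∈ N ⊔ M := hsup ▸ mem_top g
      exact mem_sup_of_normal_left.1 this
    rw [show a * m * k * (a * m)⁻¹ = a * (m * k * m⁻¹) * a⁻¹ by group]
    exact hN' a ha _ (hM' m hm k hk)
  set K := M ⊓ centralizer (N : Set G) with hK
  have hKn : K.Normal := by
    refine hnormal K (fun m hm k hk => ⟨M.mul_mem (M.mul_mem hm hk.1) (M.inv_mem hm),
      (inferInstance : (centralizer (N : Set G)).Normal).conj_mem k hk.2 m⟩) fun a ha k hk => ?_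
    rw [mem_centralizer_iff.1 hk.2 a ha, mul_inv_cancel_right]
    exact hk
  by_cases hK1 : K = ⊥
  swap
  · exact hquot K hKn hK1 inf_le_left
  rw [hidx]
  haveI : Nontrivial N := (nontrivial_iff_ne_bot N).2 hN1
  by_cases hM1 : M = ⊥
  · -- `G = N` is abelian
    have hNtop : N = ⊤ := by rwa [hM1, sup_bot_eq] at hsup
    obtain ⟨x, hx⟩ := exists_prime_orderOf_dvd_card' q
      (((Cores.MinNormal.isPGroup_of_pow_eq_one hNq).card_eq_or_dvd).resolve_left
        (Finite.one_lt_card).ne')
    have hn' : (zpowers (x : G)).Normal := ⟨fun y hy g => by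
      rw [show g * y = y * g from hcomm g (hNtop ▸ mem_top g) y (hNtop ▸ mem_top y),
        mul_inv_cancel_right]
      exact hy⟩
    rcases hmin _ hn' (zpowers_le.2 x.2) with h1 | h1
    · rw [zpowers_eq_bot, OneMemClass.coe_eq_one] at h1
      rw [h1, orderOf_one] at hx
      exact absurd hx.symm hq.ne_one
    · rw [← h1, Nat.card_zpowers, Subgroup.orderOf_coe, hx]; exact hq
  haveI : Nontrivial M := (nontrivial_iff_ne_bot M).2 hM1
  have hMss : Cfsg.IsSupersolvable M := by
    refine Supersolvable.of_mulEquiv hcompl.symm.QuotientMulEquiv ?_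
    exact ih _ (hlt N hN hN1) _ rfl inferInstance (h.quotient N)
  obtain ⟨r, P, hr, hP, hPn⟩ := Supersolvable.exists_prime_normal hMss
  haveI := Fact.mk hr
  obtain ⟨⟨⟨η, hηM⟩, hηP⟩, hη⟩ := exists_prime_orderOf_dvd_card' r (hP ▸ dvd_rfl : r ∣ Nat.card P)
  rw [← Subgroup.orderOf_coe, ← Subgroup.orderOf_coe] at hη
  have hη1 : η ≠ 1 := fun h1 => hr.ne_one (by rw [← hη]; simp [h1])
  -- the fixed points of `η` on `N` form a normal subgroup
  set F := N ⊓ centralizer ({η} : Set G) with hF
  have hFn : F.Normal := by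
    refine hnormal F (fun m hm k hk => ⟨hN.conj_mem k hk.1 m, ?_⟩) fun a ha k hk => by
      rw [hcomm a ha k hk.1, mul_inv_cancel_right]; exact hk
    -- `m⁻¹ η m` is a power of `η`
    have hη' : (⟨η, hηM⟩ : M) ∈ P := hηP
    have hconj := hPn.conj_mem _ hη' (⟨m, hm⟩ : M)⁻¹
    haveI : Fact (Nat.card P).Prime := ⟨hP ▸ hr⟩
    have hz := mem_zpowers_of_prime_card (G := P) (p := Nat.card P) rfl
      (g := ⟨⟨η, hηM⟩, hη'⟩) (g' := ⟨_, hconj⟩) (fun h1 => hη1 (congrArg
        (fun t : P => ((t : M) : G)) h1))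
    obtain ⟨i, hi⟩ := mem_zpowers_iff.1 hz
    have hi' : η ^ i = m⁻¹ * η * m := by
      simpa using congrArg (fun t : P => ((t : M) : G)) hi
    have hkη : Commute k (η ^ i) :=
      (show Commute k η from mem_centralizer_singleton_iff.1 hk.2).zpow_right i
    show m * k * m⁻¹ ∈ centralizer ({η} : Set G)
    rw [mem_centralizer_singleton_iff]
    calc m * k * m⁻¹ * η = m * (k * (m⁻¹ * η * m)) * m⁻¹ := by group
      _ = m * (k * η ^ i) * m⁻¹ := by rw [hi']
      _ = m * (η ^ i * k) * m⁻¹ := by rw [hkη.eq]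
      _ = η * (m * k * m⁻¹) := by rw [hi']; group
  have hF1 : F = ⊥ := by
    refine (hmin F hFn inf_le_left).resolve_right fun h1 => hη1 ?_
    have : η ∈ K := ⟨hηM, mem_centralizer_iff.2 fun a ha =>
      mem_centralizer_singleton_iff.1 ((h1.symm ▸ ha : a ∈ F)).2⟩
    rw [hK1, mem_bot] at this
    exact this
  have hrel : (centralizer ({η} : Set G)).relIndex N = Nat.card N := by
    rw [← inf_relIndex_right, inf_comm, ← hF, hF1, relIndex_bot_left]
  have hdvd : Nat.card N ∣ (centralizer ({η} : Set G)).index :=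
    hrel ▸ SylowNumbers.Basic.relIndex_dvd_index_of_normal_right _ N
  obtain ⟨k, hk⟩ := IsPGroup.iff_card.1 (Cores.MinNormal.isPGroup_of_pow_eq_one hNq)
  rw [hk] at hdvd ⊢
  have h1 := eq_prime_of_dvd_squarefree hq (h η ⟨r, 1, hr, by rw [hη, pow_one]⟩) hdvd
  have h2 : 1 < Nat.card N := Finite.one_lt_card
  rw [hk] at h2
  interval_cases k
  · simp at h2
  · rwa [pow_one]

/-- Solvable groups with square-free classes of primary elements are supersolvable. -/
theorem isSupersolvable [Group.IsSolvable G] (h : PrimarySquarefree G) :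
    Cfsg.IsSupersolvable G :=
  isSupersolvable_aux _ G rfl inferInstance h

end Cfsg.Agent.Lib.SquarefreeClass
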