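import Mathlib
import Cfsg.Agent.Lib.SquarefreeClass.Supersolvable
import Cfsg.Agent.Lib.Cores.Basic
import Cfsg.Agent.Lib.TwoClassSizes.Tools

/-!
# Square-free classes of primary elements: the action on the Fitting subgroup

If `G' ≤ F(G)` and `h` is an `r`-element then `h ^ r ∈ O_r(G)`, so `G / F(G)` is abelian of
square-free exponent.
-/

set_option autoImplicit false

namespace Cfsg.Agent.Lib.SquarefreeClass

open Subgroup
open scoped commutatorElement

universe u

variable {G : Type u} [Group G] [Finite G]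

theorem fitting_normal' : (Cfsg.fittingSubgroup G).Normal :=
  Subgroup.sSup_normal _ fun _ h => h.1

theorem pCore_normal' (q : ℕ) : (Cfsg.pCore q G).Normal :=
  Subgroup.sSup_normal _ fun _ h => h.1

/-- A primary element of `F(G)` lies in the corresponding core. -/
theorem mem_pCore_of_mem_fitting {q : ℕ} [Fact q.Prime] {f : G}
    (hf : f ∈ Cfsg.fittingSubgroup G) (hq : ∃ k, orderOf f = q ^ k) : f ∈ Cfsg.pCore q G := by
  obtain ⟨k, hk⟩ := hq
  set F := Cfsg.fittingSubgroup G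
  haveI : F.Normal := fitting_normal'
  haveI : Group.IsNilpotent F := Cores.fittingSubgroup_isNilpotent
  obtain ⟨P, hP⟩ := (IsPGroup.of_card (n := k) (by rw [Nat.card_zpowers, Subgroup.orderOf_mk, hk]) :
    IsPGroup q (zpowers (⟨f, hf⟩ : F))).exists_le_sylow
  haveI hPn : (P : Subgroup F).Normal :=
    Sylow.normal_of_normalizerCondition Group.normalizerCondition_of_isNilpotent P
  haveI := P.characteristic_of_normal hPn
  haveI := Cores.normal_map_subtype F (P : Subgroup F)
  exact Cores.le_pCore (P.isPGroup'.map F.subtype) ⟨⟨f, hf⟩, hP (mem_zpowers _), rfl⟩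

theorem commute_pCore {q r : ℕ} [Fact q.Prime] [Fact r.Prime] (hqr : q ≠ r) {x y : G}
    (hx : x ∈ Cfsg.pCore q G) (hy : y ∈ Cfsg.pCore r G) : Commute x y :=
  Subgroup.commute_of_normal_of_disjoint _ _ (pCore_normal' q) (pCore_normal' r)
    (IsPGroup.disjoint_of_ne q r hqr _ _ (Cores.pCore_isPGroup q) (Cores.pCore_isPGroup r)) x y hx hy

/-- An element of `F(G)` centralizes `x` as soon as its primary parts do. -/
theorem commute_of_mem_fitting {f x : G} (hf : f ∈ Cfsg.fittingSubgroup G)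
    (h : ∀ q : ℕ, q.Prime → q ∣ orderOf f → ∀ a ∈ Cfsg.pCore q G, a * x = x * a) :
    f * x = x * f := by
  have : f ∈ centralizer ({x} : Set G) := by
    refine TwoClassSizes.mem_of_primary_parts fun q hq a ha ⟨k, hk⟩ => ?_
    haveI := Fact.mk hq
    rcases k with _ | k
    · rw [orderOf_eq_one_iff.1 (show orderOf a = 1 by simpa using hk)]; exact one_mem _
    · refine mem_centralizer_singleton_iff.2 (h q hq ?_ a
        (mem_pCore_of_mem_fitting (zpowers_le.2 hf ha) ⟨_, hk⟩))
      refine (dvd_pow_self q (Nat.succ_ne_zero k)).trans (hk ▸ ?_)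
      obtain ⟨m, rfl⟩ := mem_zpowers_iff.1 ha
      exact orderOf_dvd_of_pow_eq_one (by
        rw [← zpow_natCast, ← zpow_mul, mul_comm, zpow_mul, zpow_natCast, pow_orderOf_eq_one, one_zpow])
  exact mem_centralizer_singleton_iff.1 this

/-- An `r`-element centralizing all `O_q(G)`, `q ≠ r`, lies in `O_r(G)`, if `G' ≤ F(G)`. -/
theorem mem_pCore_of_centralizes (hG' : commutator G ≤ Cfsg.fittingSubgroup G) {r : ℕ}
    [hr : Fact r.Prime] {u : G} (hu : ∃ k, orderOf u = r ^ k)
    (hc : ∀ q : ℕ, q.Prime → q ≠ r → ∀ v ∈ Cfsg.pCore q G, u * v = v * u) :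
    u ∈ Cfsg.pCore r G := by
  set O := Cfsg.pCore r G
  haveI : O.Normal := pCore_normal' r
  set X := zpowers u ⊔ O
  have hX : IsPGroup r X :=
    (TwoClassSizes.isPGroup_zpowers' hu).to_sup_of_normal_right (Cores.pCore_isPGroup r)
  have key : ∀ g : G, ⁅g, u⁆ ∈ O := by
    intro g
    have hf : ⁅g, u⁆ ∈ Cfsg.fittingSubgroup G :=
      hG' (Subgroup.commutator_mem_commutator (mem_top g) (mem_top u))
    obtain ⟨a, b, ha, hb, hab, hcomm, ⟨k, hk⟩, hbp⟩ :=
      Transfer.PResidual.exists_pPart_mul_pPrimePart (p := r) ⁅g, u⁆ (isOfFinOrder_of_finite _)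
    have haO : a ∈ O := by
      refine mem_pCore_of_mem_fitting (zpowers_le.2 hf ha) ?_
      obtain ⟨j, -, hj⟩ := (Nat.dvd_prime_pow hr.out).1 (orderOf_dvd_of_pow_eq_one hk)
      exact ⟨j, hj⟩
    have hbu : b * u = u * b :=
      commute_of_mem_fitting (zpowers_le.2 hf hb) fun q hq hqd v hv => (hc q hq (by
        rintro rfl
        exact hq.ne_one (Nat.eq_one_of_dvd_coprimes hbp hqd dvd_rfl)) v hv).symm
    have hbau : Commute b (a * u) := (show Commute b a from hcomm.symm).mul_right hbu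
    obtain ⟨i, hi⟩ := TwoClassSizes.exists_orderOf_eq_pow hX
      (mul_mem (mem_sup_right haO) (mem_sup_left (mem_zpowers u)) : a * u ∈ X)
    have hb1 : b = 1 := by
      have hcop : (orderOf b).Coprime (orderOf (a * u)) := hi ▸ hbp.pow_right i
      have hprod : b * (a * u) = g * u * g⁻¹ := by
        rw [← mul_assoc, ← hcomm, hab, commutatorElement_def]; group
      obtain ⟨j, hj⟩ := hu
      have h1 : orderOf (b * (a * u)) = r ^ j := by
        rw [hprod]
        exact (orderOf_injective (MulAut.conj g).toMonoidHom (MulAut.conj g).injective u).trans hj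
      rw [hbau.orderOf_mul_eq_mul_orderOf_of_coprime hcop] at h1
      rw [← orderOf_eq_one_iff]
      exact Nat.eq_one_of_dvd_coprimes (hbp.pow_right j) dvd_rfl (h1 ▸ Dvd.intro _ rfl)
    rw [← hab, hb1, mul_one]
    exact haO
  haveI hXn : X.Normal := by
    refine ⟨fun x hx g => ?_⟩
    obtain ⟨y, hy, o, ho, rfl⟩ := mem_sup_of_normal_right.1 hx
    obtain ⟨m, rfl⟩ := mem_zpowers_iff.1 hy
    rw [show g * (u ^ m * o) * g⁻¹ = (g * u ^ m * g⁻¹) * (g * o * g⁻¹) by group, ← conj_zpow,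
      show g * u * g⁻¹ = ⁅g, u⁆ * u by rw [commutatorElement_def]; group]
    exact mul_mem (zpow_mem (mul_mem (mem_sup_right (key g)) (mem_sup_left (mem_zpowers u))) m)
      (mem_sup_right ((inferInstance : O.Normal).conj_mem o ho g))
  exact Cores.le_pCore hX (mem_sup_left (mem_zpowers u))

/-- For a primary element `h`, `C(h) ∩ O_q(G)` has index at most `q`. -/
theorem relIndex_dvd_prime (h : PrimarySquarefree G) {q : ℕ} [hq : Fact q.Prime] {y : G}
    (hy : ∃ (r : ℕ) (k : ℕ), r.Prime ∧ orderOf y = r ^ k) :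
    (centralizer ({y} : Set G)).relIndex (Cfsg.pCore q G) ∣ q := by
  haveI := pCore_normal' (G := G) q
  have hd := SylowNumbers.Basic.relIndex_dvd_index_of_normal_right (centralizer ({y} : Set G))
    (Cfsg.pCore q G)
  obtain ⟨n, hn⟩ := IsPGroup.iff_card.1 (Cores.pCore_isPGroup (G := G) q)
  obtain ⟨j, -, hj⟩ := (Nat.dvd_prime_pow hq.out).1 (hn ▸ relIndex_dvd_card
    (centralizer ({y} : Set G)) (Cfsg.pCore q G))
  rw [hj] at hd ⊢
  exact (pow_dvd_pow q (eq_prime_of_dvd_squarefree hq.out (h y hy) hd)).trans (pow_one q).dvd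

theorem commutator_mem_of_dvd {q : ℕ} [hq : Fact q.Prime] {y : G}
    (hd : (centralizer ({y} : Set G)).relIndex (Cfsg.pCore q G) ∣ q) {a v : G}
    (ha : a ∈ Cfsg.pCore q G) (hv : v ∈ Cfsg.pCore q G) :
    ⁅a, v⁆ ∈ centralizer ({y} : Set G) :=
  frattini_le_of_relIndex_dvd (Cores.pCore_isPGroup q) hd
    (PGroups.commutatorElement_mem_frattini (Cores.pCore_isPGroup q)
      (⟨a, ha⟩ : Cfsg.pCore q G) ⟨v, hv⟩)

theorem commutator_fitting_mem_of_dvd {q : ℕ} [hq : Fact q.Prime] {y : G}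
    (hd : (centralizer ({y} : Set G)).relIndex (Cfsg.pCore q G) ∣ q) {f v : G}
    (hf : f ∈ Cfsg.fittingSubgroup G) (hv : v ∈ Cfsg.pCore q G) :
    ⁅f, v⁆ ∈ centralizer ({y} : Set G) := by
  obtain ⟨a, b, ha, hb, hab, -, ⟨k, hk⟩, hbp⟩ :=
    Transfer.PResidual.exists_pPart_mul_pPrimePart (p := q) f (isOfFinOrder_of_finite f)
  have haQ : a ∈ Cfsg.pCore q G := by
    refine mem_pCore_of_mem_fitting (zpowers_le.2 hf ha) ?_
    obtain ⟨j, -, hj⟩ := (Nat.dvd_prime_pow hq.out).1 (orderOf_dvd_of_pow_eq_one hk)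
    exact ⟨j, hj⟩
  have hbv : b * v = v * b := commute_of_mem_fitting (zpowers_le.2 hf hb) fun s hs hsd w hw => by
    haveI := Fact.mk hs
    refine (commute_pCore ?_ hw hv).eq
    rintro rfl
    exact hs.ne_one (Nat.eq_one_of_dvd_coprimes hbp hsd dvd_rfl)
  have : ⁅f, v⁆ = ⁅a, v⁆ := by
    rw [commutatorElement_def, commutatorElement_def, ← hab,
      show a * b * v * (a * b)⁻¹ = a * (b * v) * b⁻¹ * a⁻¹ by group, hbv]
    group
  rw [this]
  exact commutator_mem_of_dvd hd haQ hv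

/-- An element that fixes `v` modulo its own fixed points, and whose order is prime to that of the
difference, fixes `v`. -/
theorem commute_of_mod {u v : G} (hk : u * ⁅u, v⁆ = ⁅u, v⁆ * u)
    (hcop : (orderOf u).Coprime (orderOf ⁅u, v⁆)) : u * v = v * u :=
  OddLocal.CoprimeFix.comm_of_fixed (k := ⁅u, v⁆) (by rw [commutatorElement_def]; group) hk hcop

/-- **Key step.** The `r`-th power of an `r`-element lies in `O_r(G)`. -/
theorem pow_mem_pCore (h : PrimarySquarefree G) (hG' : commutator G ≤ Cfsg.fittingSubgroup G)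
    {r : ℕ} [hr : Fact r.Prime] {y : G} (hy : ∃ k, orderOf y = r ^ k) :
    y ^ r ∈ Cfsg.pCore r G := by
  obtain ⟨k, hk⟩ := hy
  obtain ⟨j, -, hj⟩ := (Nat.dvd_prime_pow hr.out).1 (orderOf_dvd_of_pow_eq_one
    (show (y ^ r) ^ r ^ k = 1 by rw [← pow_mul, mul_comm, pow_mul, ← hk, pow_orderOf_eq_one, one_pow]))
  refine mem_pCore_of_centralizes hG' ⟨j, hj⟩ fun q hq hqr v hv => ?_
  haveI := Fact.mk hq
  haveI := pCore_normal' (G := G) q
  haveI : (Cfsg.fittingSubgroup G).Normal := fitting_normal'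
  set F := Cfsg.fittingSubgroup G
  -- `y ^ r` agrees on `v` with an element of `F`
  set π := QuotientGroup.mk' F with hπ
  set X := zpowers y ⊔ F with hX
  have hcomm : ∀ a b : G ⧸ F, a * b = b * a := fun a b =>
    ((Subgroup.Normal.quotient_commutative_iff_commutator_le).2 hG').is_comm.comm a b
  haveI hXn : X.Normal := by
    refine ⟨fun x hx g => ?_⟩
    have h1 : ⁅g, x⁆ ∈ X :=
      mem_sup_right (hG' (Subgroup.commutator_mem_commutator (mem_top g) (mem_top x)))
    rw [show g * x * g⁻¹ = ⁅g, x⁆ * x by rw [commutatorElement_def]; group]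
    exact mul_mem h1 hx
  have hXmap : X.map π = zpowers (π y) := by
    rw [hX, Subgroup.map_sup, MonoidHom.map_zpowers, hπ, QuotientGroup.map_mk'_self, sup_bot_eq]
  set Cv := centralizer ({v} : Set G) with hCv
  have hvp : ∃ (s : ℕ) (i : ℕ), s.Prime ∧ orderOf v = s ^ i := by
    obtain ⟨i, hi⟩ := TwoClassSizes.exists_orderOf_eq_pow (Cores.pCore_isPGroup q) hv
    exact ⟨q, i, hq, hi⟩
  have hdvd : ((Cv ⊓ X).map π).relIndex (X.map π) ∣ Cv.index := by
    refine dvd_trans ?_ (SylowNumbers.Basic.relIndex_dvd_index_of_normal_right Cv X)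
    rw [relIndex_map_map, hπ, QuotientGroup.ker_mk', sup_of_le_left (le_sup_right : F ≤ X),
      ← inf_relIndex_right Cv X]
    exact relIndex_dvd_of_le_left _ le_sup_left
  have hpow : (π y) ^ r ∈ (Cv ⊓ X).map π := by
    set Y := ((Cv ⊓ X).map π).subgroupOf (zpowers (π y))
    have hd2 : Y.index ∣ r := by
      have h1 : Y.index ∣ Nat.card (zpowers (π y)) := index_dvd_card Y
      rw [Nat.card_zpowers] at h1
      obtain ⟨i, -, hi⟩ := (Nat.dvd_prime_pow hr.out).1
        (h1.trans (hk ▸ orderOf_map_dvd π y))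
      have h2 : r ^ i ∣ Cv.index := by
        rw [← hi]
        rw [hXmap] at hdvd
        exact hdvd
      rw [hi]
      exact (pow_dvd_pow r (eq_prime_of_dvd_squarefree hr.out (h v hvp) h2)).trans (pow_one r).dvd
    haveI : Y.Normal := ⟨fun a ha b => by
      have : b * a * b⁻¹ = a := by
        rw [mul_inv_eq_iff_eq_mul]; exact Subtype.ext (hcomm b a)
      rwa [this]⟩
    obtain ⟨c, hc⟩ := hd2
    have h3 : (⟨π y, mem_zpowers _⟩ : zpowers (π y)) ^ r ∈ Y := by
      rw [hc, pow_mul]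
      exact pow_mem (Y.pow_index_mem _) c
    exact h3
  obtain ⟨c, ⟨hcv, -⟩, hce⟩ := hpow
  have hf : y ^ r * c⁻¹ ∈ F := by
    rw [← QuotientGroup.eq_one_iff]
    show π (y ^ r * c⁻¹) = 1
    rw [map_mul, map_inv, map_pow, hce, mul_inv_cancel]
  have hd := relIndex_dvd_prime h (q := q) ⟨r, k, hr.out, hk⟩
  have hkC : ⁅y ^ r, v⁆ ∈ centralizer ({y} : Set G) := by
    have he : ⁅y ^ r, v⁆ = ⁅y ^ r * c⁻¹, v⁆ := by
      have h1 : c * v = v * c := mem_centralizer_singleton_iff.1 hcv
      rw [commutatorElement_def, commutatorElement_def,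
        show y ^ r * c⁻¹ * v * (y ^ r * c⁻¹)⁻¹ = y ^ r * (c⁻¹ * (v * c)) * (y ^ r)⁻¹ by group, ← h1]
      group
    rw [he]
    exact commutator_fitting_mem_of_dvd hd hf hv
  have hkQ : ⁅y ^ r, v⁆ ∈ Cfsg.pCore q G := by
    rw [commutatorElement_def]
    exact mul_mem ((inferInstance : (Cfsg.pCore q G).Normal).conj_mem v hv _) (inv_mem hv)
  refine commute_of_mod ?_ ?_
  · exact ((show Commute ⁅y ^ r, v⁆ y from mem_centralizer_singleton_iff.1 hkC).pow_right r).eq.symm
  · obtain ⟨i, hi⟩ := TwoClassSizes.exists_orderOf_eq_pow (Cores.pCore_isPGroup q) hkQ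
    rw [hj, hi]
    exact TwoClassSizes.coprime_of_prime_pow hr.out hq (Ne.symm hqr)

/-- `G' ≤ F(G)` for supersolvable groups. -/
theorem commutator_le_fitting (hG : Cfsg.IsSupersolvable G) :
    commutator G ≤ Cfsg.fittingSubgroup G :=
  Cores.le_fittingSubgroup (Supersolvable.isNilpotent_commutator hG)

/-- `G / F(G)` is abelian of square-free exponent. -/
theorem quotient_fitting (h : PrimarySquarefree G) (hG : Cfsg.IsSupersolvable G)
    [(Cfsg.fittingSubgroup G).Normal] :
    IsMulCommutative (G ⧸ Cfsg.fittingSubgroup G) ∧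
      Squarefree (Monoid.exponent (G ⧸ Cfsg.fittingSubgroup G)) := by
  refine ⟨Subgroup.Normal.quotient_commutative_iff_commutator_le.2 (commutator_le_fitting hG), ?_⟩
  refine (Nat.squarefree_iff_prime_squarefree).2 fun r hr hdvd => ?_
  haveI := Fact.mk hr
  obtain ⟨g, hg⟩ := hr.exists_orderOf_eq_pow_factorization_exponent (G ⧸ Cfsg.fittingSubgroup G)
  have hne : Monoid.exponent (G ⧸ Cfsg.fittingSubgroup G) ≠ 0 := Monoid.exponent_ne_zero_of_finite
  have h2 : 2 ≤ (Monoid.exponent (G ⧸ Cfsg.fittingSubgroup G)).factorization r :=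
    (hr.pow_dvd_iff_le_factorization hne).1 (by rwa [pow_two])
  obtain ⟨x, j, hx, rfl⟩ := exists_lift_primary _ (QuotientGroup.mk'_surjective _) hr hg
  have h1 : (QuotientGroup.mk' (Cfsg.fittingSubgroup G) x) ^ r = 1 := by
    rw [← map_pow, QuotientGroup.mk'_apply, QuotientGroup.eq_one_iff]
    exact Cores.pCore_le_fittingSubgroup r (pow_mem_pCore h (commutator_le_fitting hG) ⟨j, hx⟩)
  have h3 := Nat.le_of_dvd hr.pos (hg ▸ orderOf_dvd_of_pow_eq_one h1)
  have h4 : r ^ 2 ≤ r := (Nat.pow_le_pow_right hr.pos h2).trans h3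
  have h5 := hr.two_le
  nlinarith

end Cfsg.Agent.Lib.SquarefreeClass
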