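import Mathlib
import Cfsg.Agent.Lib.SquarefreeClass.Fitting

/-!
# Square-free class sizes: the index of the Fitting subgroup is square-free

Two independent `r`-elements modulo `F(G)` would act independently on the cores `O_q(G)`, and then
a product of two suitable elements of `F(G)` would have class size divisible by `r ^ 2`.
-/

set_option autoImplicit false

namespace Cfsg.Agent.Lib.SquarefreeClass

open Subgroup
open scoped commutatorElement

universe u

variable {G : Type u} [Group G] [Finite G] {r : ℕ} [hr : Fact r.Prime] {R : Subgroup G}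
  {q : ℕ} [hq : Fact q.Prime]

omit hq in
theorem commutator_mem_pCore (hG' : commutator G ≤ Cfsg.fittingSubgroup G) (hR : IsPGroup r R)
    {u c : G} (hu : u ∈ R) (hc : c ∈ R) : ⁅u, c⁆ ∈ Cfsg.pCore r G := by
  refine mem_pCore_of_mem_fitting (hG' (Subgroup.commutator_mem_commutator (mem_top u) (mem_top c)))
    (TwoClassSizes.exists_orderOf_eq_pow hR ?_)
  rw [commutatorElement_def]
  exact R.mul_mem (R.mul_mem (R.mul_mem hu hc) (R.inv_mem hu)) (R.inv_mem hc)

theorem conj_fixed (hG' : commutator G ≤ Cfsg.fittingSubgroup G) (hR : IsPGroup r R) (hqr : q ≠ r)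
    {u g x : G} (hu : u ∈ R) (hg : g ∈ R) (hx : x ∈ Cfsg.pCore q G) (h : Commute u x) :
    Commute u (g * x * g⁻¹) := by
  have h1 : Commute (g⁻¹ * u * g) x := by
    rw [show g⁻¹ * u * g = u * ⁅u⁻¹, g⁻¹⁆ by rw [commutatorElement_def]; group]
    exact h.mul_left (commute_pCore hqr hx
      (commutator_mem_pCore hG' hR (R.inv_mem hu) (R.inv_mem hg))).symm
  show u * (g * x * g⁻¹) = g * x * g⁻¹ * u
  calc u * (g * x * g⁻¹) = g * (g⁻¹ * u * g * x) * g⁻¹ := by group
    _ = g * (x * (g⁻¹ * u * g)) * g⁻¹ := by rw [h1.eq]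
    _ = g * x * g⁻¹ * u := by group

omit hq in
theorem dvd_prime_of_mem (h : PrimarySquarefree G) (hR : IsPGroup r R) (s : ℕ) [Fact s.Prime]
    {y : G} (hy : y ∈ R) :
    (centralizer ({y} : Set G)).relIndex (Cfsg.pCore s G) ∣ s := by
  obtain ⟨k, hk⟩ := TwoClassSizes.exists_orderOf_eq_pow hR hy
  exact relIndex_dvd_prime h ⟨r, k, hr.out, hk⟩

theorem commute_of_mod' (hR : IsPGroup r R) (hqr : q ≠ r) {u v : G} (hu : u ∈ R)
    (hv : v ∈ Cfsg.pCore q G) (hk : Commute u ⁅u, v⁆) : Commute u v := by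
  haveI : (Cfsg.pCore q G).Normal := pCore_normal' q
  refine commute_of_mod hk.eq ?_
  obtain ⟨i, hi⟩ := TwoClassSizes.exists_orderOf_eq_pow hR hu
  have h1 : ⁅u, v⁆ ∈ Cfsg.pCore q G := by
    rw [commutatorElement_def]
    exact mul_mem ((inferInstance : (Cfsg.pCore q G).Normal).conj_mem v hv u) (inv_mem hv)
  obtain ⟨j, hj⟩ := TwoClassSizes.exists_orderOf_eq_pow (Cores.pCore_isPGroup q) h1
  rw [hi, hj]
  exact TwoClassSizes.coprime_of_prime_pow hr.out hq.out (Ne.symm hqr)

omit [Finite G] hq in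
theorem commute_of_zpow (hR : IsPGroup r R) {u v : G} (hu : u ∈ R) {i : ℤ} (hi : ¬(r : ℤ) ∣ i)
    (h : Commute (u ^ i) v) : Commute u v := by
  obtain ⟨k, hk⟩ := hR ⟨u, hu⟩
  have hk' : u ^ r ^ k = 1 := by simpa using congrArg Subtype.val hk
  obtain ⟨s, t, hst⟩ : IsCoprime i (((r : ℤ)) ^ k) :=
    ((Nat.prime_iff_prime_int.1 hr.out).coprime_iff_not_dvd.2 hi).symm.pow_right
  have : u = (u ^ i) ^ s := by
    calc u = u ^ (s * i + t * (r : ℤ) ^ k) := by rw [hst, zpow_one]
      _ = (u ^ i) ^ s := by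
        rw [zpow_add, mul_comm t, zpow_mul, zpow_mul, ← Nat.cast_pow, zpow_natCast, hk', one_zpow,
          mul_one, ← zpow_mul, ← zpow_mul, mul_comm]
  rw [this]
  exact h.zpow_left s

/-- An `r`-element with the same fixed points on `O_q(G)` as `u` differs from a power of `u` by
an element centralizing `O_q(G)`. -/
theorem exists_centralizing (h : PrimarySquarefree G) (hG' : commutator G ≤ Cfsg.fittingSubgroup G)
    (hR : IsPGroup r R) (hqr : q ≠ r) {u c v : G} (hu : u ∈ R) (hc : c ∈ R)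
    (hv : v ∈ Cfsg.pCore q G) (hmv : ¬Commute u v)
    (hle : ∀ x ∈ Cfsg.pCore q G, Commute u x → Commute c x) :
    ∃ m : ℤ, ∀ x ∈ Cfsg.pCore q G, Commute (c * u ^ m) x := by
  set Q := Cfsg.pCore q G with hQ
  haveI : Q.Normal := pCore_normal' q
  have hd := dvd_prime_of_mem h hR q hu
  set N := (centralizer ({u} : Set G)).subgroupOf Q with hN
  have hmemN : ∀ x : Q, x ∈ N ↔ Commute u x := fun x => by
    rw [hN, mem_subgroupOf, mem_centralizer_singleton_iff]
    exact ⟨fun e => e.symm, fun e => e.eq.symm⟩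
  haveI : N.Normal := by
    refine ⟨fun x hx y => ?_⟩
    have h1 := commutator_mem_of_dvd hd y.2 x.2
    rw [mem_subgroupOf] at hx ⊢
    rw [show ((y * x * y⁻¹ : Q) : G) = ⁅(y : G), (x : G)⁆ * x by
      simp [commutatorElement_def, mul_assoc]]
    exact mul_mem h1 hx
  have hinv : ∀ g : R, N.map (MulAut.conjNormal (g : G) : MulAut Q).toMonoidHom = N := by
    intro g
    refine eq_of_le_of_card_ge ?_ (card_map_of_injective (MulEquiv.injective _)).ge
    rintro _ ⟨x, hx, rfl⟩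
    rw [hmemN]
    exact conj_fixed hG' hR hqr hu g.2 x.2 ((hmemN x).1 hx)
  let θ : R →* MulAut (Q ⧸ N) :=
    { toFun := fun g => QuotientGroup.congr N N (MulAut.conjNormal (g : G)) (hinv g)
      map_one' := by
        ext z
        induction z using QuotientGroup.induction_on with
        | H x => simp [QuotientGroup.congr_mk]
      map_mul' := fun g g' => by
        ext z
        induction z using QuotientGroup.induction_on with
        | H x =>
          show ((MulAut.conjNormal ((g * g' : R) : G) x : Q) : Q ⧸ N) =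
            ((MulAut.conjNormal (g : G) (MulAut.conjNormal (g' : G) x) : Q) : Q ⧸ N)
          rw [Subgroup.coe_mul, map_mul, MulAut.mul_apply] }
  have hθ : ∀ (g : R) (x : Q), θ g = 1 → ⁅(g : G), (x : G)⁆ ∈ centralizer ({u} : Set G) := by
    intro g x hg
    have h1 : θ g (x : Q ⧸ N) = (x : Q ⧸ N) := by rw [hg]; rfl
    change ((MulAut.conjNormal (g : G) x : Q) : Q ⧸ N) = (x : Q ⧸ N) at h1
    rw [eq_comm, QuotientGroup.eq, hN, mem_subgroupOf] at h1
    have h2 : ((x⁻¹ * MulAut.conjNormal (g : G) x : Q) : G) = (x : G)⁻¹ * ⁅(g : G), (x : G)⁆ * x := by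
      simp [commutatorElement_def, MulAut.conjNormal_apply, mul_assoc]
    rw [h2] at h1
    have hk : ⁅(g : G), (x : G)⁆ ∈ Q := by
      rw [commutatorElement_def]
      exact mul_mem ((inferInstance : Q.Normal).conj_mem _ x.2 _) (inv_mem x.2)
    have h3 := commutator_mem_of_dvd hd (inv_mem x.2) hk
    have h4 : ⁅(g : G), (x : G)⁆ =
        ⁅(x : G)⁻¹, ⁅(g : G), (x : G)⁆⁆⁻¹ * ((x : G)⁻¹ * ⁅(g : G), (x : G)⁆ * x) := by
      rw [commutatorElement_def (x : G)⁻¹]; group
    rw [h4]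
    exact mul_mem (inv_mem h3) h1
  have hidx : N.index = q := by
    rcases (Nat.dvd_prime hq.out).1 (show N.index ∣ q from hd) with h1 | h1
    · exact absurd ((hmemN ⟨v, hv⟩).1 (Subgroup.index_eq_one.1 h1 ▸ mem_top _)) hmv
    · exact h1
  haveI : IsCyclic (Q ⧸ N) := isCyclic_of_prime_card (p := q) hidx
  haveI : IsCyclic (MulAut (Q ⧸ N)) := by
    haveI : IsCyclic (ZMod (Nat.card (Q ⧸ N)))ˣ := by
      rw [show Nat.card (Q ⧸ N) = q from hidx]; infer_instance
    exact isCyclic_of_surjective _ (IsCyclic.mulAutMulEquiv (Q ⧸ N)).symm.surjective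
  have hpow : ∀ g : R, θ g ^ r = 1 := by
    intro g
    obtain ⟨k, hk⟩ := TwoClassSizes.exists_orderOf_eq_pow hR g.2
    have h1 := pow_mem_pCore h hG' ⟨k, hk⟩
    rw [← map_pow]
    ext z
    induction z using QuotientGroup.induction_on with
    | H x =>
      show ((MulAut.conjNormal ((g ^ r : R) : G) x : Q) : Q ⧸ N) = (x : Q ⧸ N)
      congr 1
      apply Subtype.ext
      rw [MulAut.conjNormal_apply, SubmonoidClass.coe_pow, ← (commute_pCore hqr x.2 h1).eq,
        mul_inv_cancel_right]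
  set α := θ ⟨u, hu⟩ with hα
  have hα1 : α ≠ 1 := by
    intro h1
    refine hmv (commute_of_mod' hR hqr hu hv ?_)
    exact (mem_centralizer_singleton_iff.1 (hθ ⟨u, hu⟩ ⟨v, hv⟩ h1)).symm
  have hord : orderOf α = r := orderOf_eq_prime (hpow _) hα1
  have hmem : θ ⟨c, hc⟩ ∈ zpowers α := by
    classical
    haveI := Fintype.ofFinite (MulAut (Q ⧸ N))
    have hsub : (Finset.univ.filter fun a : MulAut (Q ⧸ N) => a ∈ zpowers α) =
        Finset.univ.filter fun a : MulAut (Q ⧸ N) => a ^ r = 1 := by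
      refine Finset.eq_of_subset_of_card_le (fun a ha => ?_) ?_
      · simp only [Finset.mem_filter, Finset.mem_univ, true_and] at ha ⊢
        obtain ⟨n, rfl⟩ := mem_zpowers_iff.1 ha
        rw [← zpow_natCast, ← zpow_mul, mul_comm, zpow_mul, zpow_natCast, hpow, one_zpow]
      · refine (IsCyclic.card_pow_eq_one_le hr.out.pos).trans (le_of_eq ?_)
        rw [← Fintype.card_subtype, ← Nat.card_eq_fintype_card]
        exact hord.symm.trans (Nat.card_zpowers α).symm
    have := (Finset.ext_iff.1 hsub (θ ⟨c, hc⟩)).2 (by simp [hpow])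
    simpa using this
  obtain ⟨n, hn⟩ := mem_zpowers_iff.1 hmem
  refine ⟨-n, fun x hx => ?_⟩
  have hg : θ (⟨c, hc⟩ * ⟨u, hu⟩ ^ (-n)) = 1 := by
    rw [map_mul, map_zpow, ← hn, ← hα, ← zpow_add, add_neg_cancel, zpow_zero]
  have h1 := (mem_centralizer_singleton_iff.1 (hθ _ ⟨x, hx⟩ hg) :)
  have hcu : c * u ^ (-n) ∈ R := R.mul_mem hc (R.zpow_mem hu _)
  refine commute_of_mod' hR hqr hcu hx ?_
  have hcomm : Commute u ⁅c * u ^ (-n), x⁆ := by
    simpa [commute_iff_eq] using h1.symm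
  exact (hle _ (by
    rw [commutatorElement_def]
    exact mul_mem ((inferInstance : Q.Normal).conj_mem x hx _) (inv_mem hx)) hcomm).mul_left
      (hcomm.zpow_left _)

/-- Two subgroups of index dividing `q` in `O_q(G)`, one inside the other. -/
theorem commute_of_commute_imp (h : PrimarySquarefree G) (hR : IsPGroup r R) {u c w : G}
    (hu : u ∈ R) (hw : w ∈ Cfsg.pCore q G) (hcw : ¬Commute c w)
    (hle : ∀ x ∈ Cfsg.pCore q G, Commute u x → Commute c x) :
    ∀ x ∈ Cfsg.pCore q G, Commute c x → Commute u x := by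
  set A := (centralizer ({u} : Set G)).subgroupOf (Cfsg.pCore q G) with hA
  set B := (centralizer ({c} : Set G)).subgroupOf (Cfsg.pCore q G) with hB
  have hAB : A ≤ B := by
    intro x hx
    rw [hA, mem_subgroupOf, mem_centralizer_singleton_iff] at hx
    rw [hB, mem_subgroupOf, mem_centralizer_singleton_iff]
    exact (hle x x.2 hx.symm).eq.symm
  have hd : A.index ∣ q := dvd_prime_of_mem h hR q hu
  intro x hx hcx
  have hxB : (⟨x, hx⟩ : Cfsg.pCore q G) ∈ B := by
    rw [hB, mem_subgroupOf, mem_centralizer_singleton_iff]; exact hcx.eq.symm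
  have hBne : B.index ≠ 1 := fun h1 => hcw (by
    have : (⟨w, hw⟩ : Cfsg.pCore q G) ∈ B := Subgroup.index_eq_one.1 h1 ▸ mem_top _
    rw [hB, mem_subgroupOf, mem_centralizer_singleton_iff] at this
    exact this.symm)
  have h2 := relIndex_mul_index hAB
  rcases (Nat.dvd_prime hq.out).1 ((Dvd.intro_left _ h2 : B.index ∣ A.index).trans hd) with h3 | h3
  · exact absurd h3 hBne
  rcases (Nat.dvd_prime hq.out).1 hd with h4 | h4
  · rw [h4] at h2
    exact absurd (Nat.eq_one_of_mul_eq_one_left h2) hBne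
  rw [h3, h4, mul_eq_right₀ hq.out.ne_zero, relIndex_eq_one] at h2
  have := h2 hxB
  rw [hA, mem_subgroupOf, mem_centralizer_singleton_iff] at this
  exact this.symm

omit hq in
/-- Two `r`-elements independent modulo `F(G)` move two elements independently. -/
theorem exists_independent (h : PrimarySquarefree G) (hG' : commutator G ≤ Cfsg.fittingSubgroup G)
    (hR : IsPGroup r R) {a b : G} (ha : a ∈ R) (hb : b ∈ R) (ha1 : a ∉ Cfsg.fittingSubgroup G)
    (hb1 : ∀ m : ℤ, b * a ^ m ∉ Cfsg.fittingSubgroup G) :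
    ∃ a' ∈ R, ∃ b' ∈ R, ∃ q₁ q₂ : ℕ, q₁.Prime ∧ q₁ ≠ r ∧ q₂.Prime ∧ q₂ ≠ r ∧
      ∃ v ∈ Cfsg.pCore q₁ G, ∃ w ∈ Cfsg.pCore q₂ G,
        ¬Commute a' v ∧ Commute b' v ∧ Commute a' w ∧ ¬Commute b' w := by
  have key : ∀ {y : G}, y ∈ R → y ∉ Cfsg.fittingSubgroup G →
      ∃ s : ℕ, s.Prime ∧ s ≠ r ∧ ∃ v ∈ Cfsg.pCore s G, ¬Commute y v := by
    intro y hy hyF
    by_contra hcon
    push Not at hcon
    exact hyF (Cores.pCore_le_fittingSubgroup r (mem_pCore_of_centralizes hG'
      (TwoClassSizes.exists_orderOf_eq_pow hR hy) hcon))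
  obtain ⟨q₁, hq₁, hq₁r, v, hv, hav⟩ := key ha ha1
  haveI := Fact.mk hq₁
  by_cases hcase : ∀ x ∈ Cfsg.pCore q₁ G, Commute a x → Commute b x
  · obtain ⟨m, hm⟩ := exists_centralizing h hG' hR hq₁r ha hb hv hav hcase
    set b' := b * a ^ m with hb'
    have hb'R : b' ∈ R := R.mul_mem hb (R.zpow_mem ha m)
    obtain ⟨q₂, hq₂, hq₂r, w, hw, hbw⟩ := key hb'R (hb1 m)
    haveI := Fact.mk hq₂
    by_cases hcase' : ∀ x ∈ Cfsg.pCore q₂ G, Commute a x → Commute b' x
    · obtain ⟨n, hn⟩ := exists_centralizing h hG' hR hq₂r hb'R ha hw hbw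
        (commute_of_commute_imp h hR ha hw hbw hcase')
      refine ⟨a * b' ^ n, R.mul_mem ha (R.zpow_mem hb'R n), b', hb'R, q₁, q₂, hq₁, hq₁r, hq₂, hq₂r,
        v, hv, w, hw, fun hc => hav ?_, hm v hv, hn w hw, hbw⟩
      have := hc.mul_left ((hm v hv).zpow_left (-n))
      rwa [mul_assoc, ← zpow_add, add_neg_cancel, zpow_zero, mul_one] at this
    · push Not at hcase'
      obtain ⟨w', hw', haw', hbw'⟩ := hcase'
      exact ⟨a, ha, b', hb'R, q₁, q₂, hq₁, hq₁r, hq₂, hq₂r, v, hv, w', hw', hav, hm v hv, haw', hbw'⟩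
  · push Not at hcase
    obtain ⟨w, hw, haw, hbw⟩ := hcase
    by_cases hcase' : ∀ x ∈ Cfsg.pCore q₁ G, Commute b x → Commute a x
    · exact absurd (commute_of_commute_imp h hR hb hv hav hcase' w hw haw) hbw
    · push Not at hcase'
      obtain ⟨v', hv', hbv', hav'⟩ := hcase'
      exact ⟨a, ha, b, hb, q₁, q₁, hq₁, hq₁r, hq₁, hq₁r, v', hv', w, hw, hav', hbv', haw, hbw⟩

/-- An element of `F(G)` moved independently by two elements. -/
theorem dvd_of_commute_mul (h : PrimarySquarefree G) (hG' : commutator G ≤ Cfsg.fittingSubgroup G)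
    (hR : IsPGroup r R) (hqr : q ≠ r) {q' : ℕ} [hq' : Fact q'.Prime] (hqr' : q' ≠ r)
    {a b v w f : G} (ha : a ∈ R) (hb : b ∈ R) (hv : v ∈ Cfsg.pCore q G)
    (hw : w ∈ Cfsg.pCore q' G) (hav : ¬Commute a v) (hbv : Commute b v) (haw : Commute a w)
    (hbw : ¬Commute b w) (hf : f ∈ Cfsg.fittingSubgroup G) {i j : ℤ}
    (hfix : Commute (a ^ i * b ^ j * f) (v * w)) : (r : ℤ) ∣ i ∧ (r : ℤ) ∣ j := by
  haveI : (Cfsg.pCore q G).Normal := pCore_normal' q
  haveI : (Cfsg.pCore q' G).Normal := pCore_normal' q'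
  set u := a ^ i * b ^ j with hu
  have hai : a ^ i ∈ R := R.zpow_mem ha i
  have hbj : b ^ j ∈ R := R.zpow_mem hb j
  have huR : u ∈ R := R.mul_mem hai hbj
  set v' := a ^ i * v * (a ^ i)⁻¹ with hv'
  set w' := b ^ j * w * (b ^ j)⁻¹ with hw'
  have huv : u * v * u⁻¹ = v' := by
    rw [hu, hv', show a ^ i * b ^ j * v * (a ^ i * b ^ j)⁻¹ =
      a ^ i * (b ^ j * v) * (b ^ j)⁻¹ * (a ^ i)⁻¹ by group, (hbv.zpow_left j).eq]
    group
  have haw' : Commute a w' := conj_fixed hG' hR hqr' ha hbj hw haw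
  have huw : u * w * u⁻¹ = w' := by
    rw [hu, show a ^ i * b ^ j * w * (a ^ i * b ^ j)⁻¹ = a ^ i * w' * (a ^ i)⁻¹ by rw [hw']; group,
      (haw'.zpow_left i).eq, mul_inv_cancel_right]
  have hbv' : Commute b v' := conj_fixed hG' hR hqr hb hai hv hbv
  -- the contributions of `f`
  set kv := ⁅f, v⁆ with hkv
  set kw := ⁅f, w⁆ with hkw
  have hkvC : ∀ y ∈ R, Commute y kv := fun y hy => (mem_centralizer_singleton_iff.1
    (commutator_fitting_mem_of_dvd (dvd_prime_of_mem h hR q hy) hf hv)).symm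
  have hkwC : ∀ y ∈ R, Commute y kw := fun y hy => (mem_centralizer_singleton_iff.1
    (commutator_fitting_mem_of_dvd (dvd_prime_of_mem h hR q' hy) hf hw)).symm
  have heq : kv * v' * (kw * w') = v * w := by
    have h1 : a ^ i * b ^ j * f * (v * w) * (a ^ i * b ^ j * f)⁻¹ = v * w := by
      rw [hfix.eq, mul_inv_cancel_right]
    conv_rhs => rw [← h1]
    rw [show a ^ i * b ^ j * f * (v * w) * (a ^ i * b ^ j * f)⁻¹ =
      (u * kv * u⁻¹) * (u * v * u⁻¹) * ((u * kw * u⁻¹) * (u * w * u⁻¹)) by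
        rw [hu, hkv, hkw, commutatorElement_def, commutatorElement_def]; group,
      huv, huw, (hkvC u huR).eq, (hkwC u huR).eq, mul_inv_cancel_right, mul_inv_cancel_right]
  -- a common fixed element
  set e := v'⁻¹ * kv⁻¹ * v with he
  have he' : e = kw * w' * w⁻¹ := by
    calc e = v'⁻¹ * kv⁻¹ * (v * w) * w⁻¹ := by rw [he]; group
      _ = kw * w' * w⁻¹ := by rw [← heq]; group
  have hae : Commute a e := he' ▸ ((hkwC a ha).mul_right haw').mul_right haw.inv_right
  have hbe : Commute b e :=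
    (hbv'.inv_right.mul_right (hkvC b hb).inv_right).mul_right hbv
  have heQ : e ∈ Cfsg.pCore q G := by
    have h1 : v' ∈ Cfsg.pCore q G := (inferInstance : (Cfsg.pCore q G).Normal).conj_mem v hv _
    have h2 : kv ∈ Cfsg.pCore q G := by
      rw [hkv, commutatorElement_def]
      exact mul_mem ((inferInstance : (Cfsg.pCore q G).Normal).conj_mem v hv _) (inv_mem hv)
    exact mul_mem (mul_mem (inv_mem h1) (inv_mem h2)) hv
  constructor
  · by_contra hi
    refine hav (commute_of_zpow hR ha hi (commute_of_mod' hR hqr hai hv ?_))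
    have h1 : ⁅a ^ i, v⁆ = kv⁻¹ * (⁅v, e⁻¹⁆ * e⁻¹) := by
      rw [he, commutatorElement_def, commutatorElement_def, hv']; group
    have h2 : Commute a ⁅v, e⁻¹⁆ := (mem_centralizer_singleton_iff.1
      (commutator_mem_of_dvd (dvd_prime_of_mem h hR q ha) hv (inv_mem heQ))).symm
    rw [h1]
    exact ((hkvC a ha).inv_right.mul_right (h2.mul_right hae.inv_right)).zpow_left i
  · by_contra hj
    refine hbw (commute_of_zpow hR hb hj (commute_of_mod' hR hqr' hbj hw ?_))
    have h1 : ⁅b ^ j, w⁆ = kw⁻¹ * e := by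
      rw [he', commutatorElement_def, hw']; group
    rw [h1]
    exact ((hkwC b hb).inv_right.mul_right hbe).zpow_left j

omit hq in
/-- **`r ^ 2` does not divide `[G : F(G)]`.** -/
theorem not_sq_dvd_index (hsq : ∀ x : G, Squarefree (centralizer ({x} : Set G)).index)
    (hG' : commutator G ≤ Cfsg.fittingSubgroup G) :
    ¬r ^ 2 ∣ (Cfsg.fittingSubgroup G).index := by
  intro hdvd
  have h : PrimarySquarefree G := fun x _ => hsq x
  set F := Cfsg.fittingSubgroup G with hF
  haveI : F.Normal := fitting_normal'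
  set π := QuotientGroup.mk' F with hπ
  have hπs : Function.Surjective π := QuotientGroup.mk'_surjective F
  have hπ1 : ∀ g : G, π g = 1 ↔ g ∈ F := fun g => QuotientGroup.eq_one_iff g
  obtain ⟨S⟩ : Nonempty (Sylow r G) := inferInstance
  set P := S.mapSurjective hπs with hP
  have hPcard : r ^ 2 ∣ Nat.card (P : Subgroup (G ⧸ F)) :=
    P.pow_dvd_card_of_pow_dvd_card hdvd
  have hexp : ∀ y ∈ (S : Subgroup G), π y ^ r = 1 := by
    intro y hy
    rw [← map_pow, hπ1]
    exact Cores.pCore_le_fittingSubgroup r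
      (pow_mem_pCore h hG' (TwoClassSizes.exists_orderOf_eq_pow S.2 hy))
  have hcard_le : ∀ y ∈ (S : Subgroup G), Nat.card (zpowers (π y)) ≤ r := by
    intro y hy
    rw [Nat.card_zpowers]
    exact orderOf_le_of_pow_eq_one hr.out.pos (hexp y hy)
  obtain ⟨a, ha, ha1⟩ : ∃ a ∈ (S : Subgroup G), a ∉ F := by
    by_contra hcon
    push Not at hcon
    have : (P : Subgroup (G ⧸ F)) = ⊥ := (eq_bot_iff_forall _).2 fun z hz => by
      obtain ⟨y, hy, rfl⟩ := hz
      exact (hπ1 y).2 (hcon y hy)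
    rw [this, card_bot] at hPcard
    exact hr.out.ne_one (Nat.eq_one_of_mul_eq_one_left
      (Nat.dvd_one.1 hPcard ▸ (pow_two r).symm))
  obtain ⟨b, hb, hb1⟩ : ∃ b ∈ (S : Subgroup G), π b ∉ zpowers (π a) := by
    by_contra hcon
    push Not at hcon
    have hle : (P : Subgroup (G ⧸ F)) ≤ zpowers (π a) := by
      rintro _ ⟨y, hy, rfl⟩
      exact hcon y hy
    have h1 := (Nat.le_of_dvd Nat.card_pos hPcard).trans
      ((card_le_of_le hle).trans (hcard_le a ha))
    have := hr.out.two_le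
    nlinarith
  have hb1' : ∀ m : ℤ, b * a ^ m ∉ F := by
    intro m hm
    refine hb1 (mem_zpowers_iff.2 ⟨-m, ?_⟩)
    have := (hπ1 _).2 hm
    rw [map_mul, map_zpow, mul_eq_one_iff_eq_inv, ← zpow_neg] at this
    exact this.symm
  obtain ⟨a', ha', b', hb', q₁, q₂, hq₁, hq₁r, hq₂, hq₂r, v, hv, w, hw, hav, hbv, haw, hbw⟩ :=
    exists_independent h hG' S.2 ha hb ha1 hb1'
  haveI := Fact.mk hq₁
  haveI := Fact.mk hq₂
  have hdiv : ∀ (f : G), f ∈ F → ∀ i j : ℤ, Commute (a' ^ i * b' ^ j * f) (v * w) →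
      (r : ℤ) ∣ i ∧ (r : ℤ) ∣ j := fun f hf i j hfix =>
    dvd_of_commute_mul h hG' S.2 hq₁r hq₂r ha' hb' hv hw hav hbv haw hbw hf hfix
  have hindep : ∀ i j : ℤ, a' ^ i * b' ^ j ∈ F → (r : ℤ) ∣ i ∧ (r : ℤ) ∣ j := fun i j hij => by
    refine hdiv _ (inv_mem hij) i j ?_
    rw [mul_inv_cancel]
    exact Commute.one_left _
  have hzmem : ∀ y ∈ (S : Subgroup G), ∀ i : ℤ, (r : ℤ) ∣ i → π y ^ i = 1 := by
    rintro y hy i ⟨c, rfl⟩
    rw [zpow_mul, zpow_natCast, hexp y hy, one_zpow]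
  set X := (zpowers (π a') ⊔ zpowers (π b')).comap π with hX
  have hcomm : ∀ y z : G ⧸ F, y * z = z * y := fun y z =>
    ((Subgroup.Normal.quotient_commutative_iff_commutator_le).2 hG').is_comm.comm y z
  haveI hn : ∀ K : Subgroup (G ⧸ F), K.Normal := fun K =>
    ⟨fun x hx g => by rw [hcomm g x, mul_inv_cancel_right]; exact hx⟩
  haveI := hn (zpowers (π a'))
  haveI := hn (zpowers (π a') ⊔ zpowers (π b'))
  set C := centralizer ({v * w} : Set G) with hC
  have hCX : C ⊓ X ≤ F := by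
    rintro g ⟨hgC, hgX⟩
    obtain ⟨y, hy, z, hz, hyz⟩ := mem_sup_of_normal_left.1 (show π g ∈ _ from hgX)
    obtain ⟨i, rfl⟩ := mem_zpowers_iff.1 hy
    obtain ⟨j, rfl⟩ := mem_zpowers_iff.1 hz
    have hf : (a' ^ i * b' ^ j)⁻¹ * g ∈ F := by
      rw [← hπ1, map_mul, map_inv, map_mul, map_zpow, map_zpow, hyz, inv_mul_cancel]
    obtain ⟨hi, hj⟩ := hdiv _ hf i j (by
      rw [mul_inv_cancel_left]
      exact mem_centralizer_singleton_iff.1 hgC)
    rw [← hπ1, ← hyz, hzmem a' ha' i hi, hzmem b' hb' j hj, mul_one]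
  have hFX : F ≤ X := fun g hg => by
    show π g ∈ zpowers (π a') ⊔ zpowers (π b')
    rw [(hπ1 g).2 hg]; exact one_mem _
  have hpg : IsPGroup r (zpowers (π a') ⊔ zpowers (π b') : Subgroup (G ⧸ F)) :=
    P.2.to_le (sup_le (zpowers_le.2 ⟨a', ha', rfl⟩) (zpowers_le.2 ⟨b', hb', rfl⟩))
  obtain ⟨k, hk⟩ := IsPGroup.iff_card.1 hpg
  have hk2 : 2 ≤ k := by
    by_contra hlt
    have hle : Nat.card (zpowers (π a') ⊔ zpowers (π b') : Subgroup (G ⧸ F)) ≤ r := by
      rw [hk]
      exact (Nat.pow_le_pow_right hr.out.pos (by omega : k ≤ 1)).trans_eq (pow_one r)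
    have hane : π a' ≠ 1 := fun h1 => by
      have := (hindep 1 0 (by simpa using (hπ1 a').1 h1)).1
      have h3 := Int.le_of_dvd one_pos this
      have := hr.out.two_le
      omega
    have horda : Nat.card (zpowers (π a')) = r := by
      rw [Nat.card_zpowers, orderOf_eq_prime (hexp a' ha') hane]
    have heq := eq_of_le_of_card_ge (le_sup_left : zpowers (π a') ≤ zpowers (π a') ⊔ zpowers (π b'))
      (hle.trans horda.ge)
    obtain ⟨i, hi⟩ := mem_zpowers_iff.1 (heq.symm ▸ (mem_sup_right (mem_zpowers (π b'))) :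
      π b' ∈ zpowers (π a'))
    have := (hindep i (-1) (by
      rw [← hπ1, map_mul, map_zpow, map_zpow, hi, ← zpow_one_add, add_neg_cancel, zpow_zero])).2
    rw [dvd_neg] at this
    have h3 := Int.le_of_dvd one_pos this
    have := hr.out.two_le
    omega
  have hmap : X.map π = zpowers (π a') ⊔ zpowers (π b') := map_comap_eq_self_of_surjective hπs _
  have hrel : r ^ k ∣ C.index := by
    refine dvd_trans ?_ ((relIndex_dvd_of_le_left X hCX).trans ?_)
    · rw [← hk, ← hmap, ← relIndex_bot_left (X.map π), ← (QuotientGroup.map_mk'_self F),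
        relIndex_map_map, QuotientGroup.ker_mk', sup_idem, sup_of_le_left hFX]
    · rw [inf_relIndex_right]
      exact SylowNumbers.Basic.relIndex_dvd_index_of_normal_right C X
  exact hr.out.not_isUnit (hsq (v * w) r (by
    rw [← pow_two]; exact (pow_dvd_pow r hk2).trans hrel))

end Cfsg.Agent.Lib.SquarefreeClass
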