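import Mathlib
import Cfsg.Agent.Lib.SquarefreeClass.Index

/-!
# Square-free class sizes: the derived subgroup has square-free order
-/

set_option autoImplicit false

namespace Cfsg.Agent.Lib.SquarefreeClass

open Subgroup
open scoped commutatorElement

universe u

variable {G : Type u} [Group G] [Finite G]

/-- `[F(G), F(G)] ≤ Z(G)` already for square-free classes of primary elements. -/
theorem commutator_fitting_mem_center (h : PrimarySquarefree G) {f g : G}
    (hf : f ∈ Cfsg.fittingSubgroup G) (hg : g ∈ Cfsg.fittingSubgroup G) : ⁅f, g⁆ ∈ center G := by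
  have key : ∀ {q : ℕ} [Fact q.Prime] {v : G}, v ∈ Cfsg.pCore q G → ⁅f, v⁆ ∈ center G := by
    intro q _ v hv
    refine mem_center_iff.2 fun y => ?_
    have : y ∈ centralizer ({⁅f, v⁆} : Set G) := by
      refine TwoClassSizes.mem_of_primary_parts fun s hs a _ ⟨k, hk⟩ => ?_
      exact mem_centralizer_singleton_iff.2 (mem_centralizer_singleton_iff.1
        (commutator_fitting_mem_of_dvd (relIndex_dvd_prime h ⟨s, k, hs, hk⟩) hf hv)).symm
    exact mem_centralizer_singleton_iff.1 this
  have hmem : g ∈ (centralizer ({(f : G ⧸ center G)} : Set (G ⧸ center G))).comap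
      (QuotientGroup.mk' (center G)) := by
    refine TwoClassSizes.mem_of_primary_parts fun s hs a ha ⟨k, hk⟩ => ?_
    haveI := Fact.mk hs
    have h1 := key (mem_pCore_of_mem_fitting (zpowers_le.2 hg ha) ⟨k, hk⟩)
    refine mem_centralizer_singleton_iff.2 (Eq.symm ?_)
    rw [← commutatorElement_eq_one_iff_mul_comm]
    show ⁅QuotientGroup.mk' (center G) f, QuotientGroup.mk' (center G) a⁆ = 1
    rw [← map_commutatorElement]
    exact (QuotientGroup.eq_one_iff _).2 h1
  have h2 := (mem_centralizer_singleton_iff.1 hmem).symm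
  rw [← commutatorElement_eq_one_iff_mul_comm] at h2
  change ⁅QuotientGroup.mk' (center G) f, QuotientGroup.mk' (center G) g⁆ = 1 at h2
  rw [← map_commutatorElement] at h2
  exact (QuotientGroup.eq_one_iff _).1 h2

theorem upperCentralSeries_fitting (h : PrimarySquarefree G) :
    Subgroup.upperCentralSeries (Cfsg.fittingSubgroup G) 2 = ⊤ := by
  refine eq_top_iff.2 fun x _ => Subgroup.mem_upperCentralSeries_succ_iff.2 fun y => ?_
  rw [Subgroup.upperCentralSeries_one, mem_center_iff]
  intro z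
  apply Subtype.ext
  have := mem_center_iff.1 (commutator_fitting_mem_center h x.2 y.2) z
  simpa [commutatorElement_def] using this

omit [Finite G] in
theorem exists_not_mem_of_ne_top {A B : Subgroup G} (hA : A ≠ ⊤) (hB : B ≠ ⊤) :
    ∃ z, z ∉ A ∧ z ∉ B := by
  obtain ⟨a, -, ha⟩ := SetLike.exists_of_lt hA.lt_top
  obtain ⟨b, -, hb⟩ := SetLike.exists_of_lt hB.lt_top
  by_cases haB : a ∈ B
  · by_cases hbA : b ∈ A
    · exact ⟨a * b, fun hh => ha ((mul_mem_cancel_right hbA).1 hh),
        fun hh => hb ((mul_mem_cancel_left haB).1 hh)⟩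
    · exact ⟨b, hbA, hb⟩
  · exact ⟨a, ha, haB⟩

/-- All centralizers of index dividing `q`, central derived subgroup: it has order dividing `q`. -/
theorem card_commutator_dvd_of_breadth {q : ℕ} [hq : Fact q.Prime]
    (hZ : ∀ x y : G, ⁅x, y⁆ ∈ center G)
    (hd : ∀ x : G, (centralizer ({x} : Set G)).index ∣ q) : Nat.card (commutator G) ∣ q := by
  have hmul : ∀ x y z : G, ⁅x, y * z⁆ = ⁅x, y⁆ * ⁅x, z⁆ := fun x y z => by
    rw [show ⁅x, y * z⁆ = ⁅x, y⁆ * (y * ⁅x, z⁆ * y⁻¹) by
      simp only [commutatorElement_def]; group,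
      mem_center_iff.1 (hZ x z) y, mul_inv_cancel_right]
  let φ : G → G →* G := fun x =>
    { toFun := fun y => ⁅x, y⁆, map_one' := commutatorElement_one_right _,
      map_mul' := fun y z => hmul x y z }
  have hker : ∀ x, (φ x).ker = centralizer ({x} : Set G) := fun x => by
    ext y
    rw [MonoidHom.mem_ker, mem_centralizer_singleton_iff]
    exact commutatorElement_eq_one_iff_mul_comm.trans eq_comm
  have hcard : ∀ x, Nat.card (φ x).range ∣ q := fun x => by
    rw [← index_ker, hker]; exact hd x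
  -- non-commuting elements have the same range
  have heq : ∀ x y : G, ¬Commute x y → (φ x).range = (φ y).range := by
    intro x y hxy
    have hne : ⁅x, y⁆ ≠ 1 := fun h1 => hxy (commutatorElement_eq_one_iff_mul_comm.1 h1)
    have hgen : ∀ z, ⁅x, y⁆ ∈ (φ z).range → (φ z).range = zpowers ⁅x, y⁆ := by
      intro z hz
      have hle := zpowers_le.2 hz
      refine (eq_of_le_of_card_ge hle ?_).symm
      rcases (Nat.dvd_prime hq.out).1 (hcard z) with h1 | h1
      · rw [h1]; exact Nat.card_pos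
      · rw [h1]
        rcases (Nat.dvd_prime hq.out).1 ((card_dvd_of_le hle).trans (hcard z)) with h2 | h2
        · rw [Nat.card_zpowers, orderOf_eq_one_iff] at h2
          exact absurd h2 hne
        · exact h2.ge
    rw [hgen x ⟨y, rfl⟩, hgen y ⟨x⁻¹, ?_⟩]
    show ⁅y, x⁻¹⁆ = ⁅x, y⁆
    have h1 := hmul y x x⁻¹
    rw [mul_inv_cancel, commutatorElement_one_right] at h1
    rw [← commutatorElement_inv y x, eq_inv_iff_mul_eq_one]
    rw [← mem_center_iff.1 (hZ y x⁻¹) ⁅y, x⁆]
    exact h1.symm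
  by_cases hab : ∃ x y : G, ¬Commute x y
  swap
  · push Not at hab
    have : commutator G = ⊥ := (commutator_eq_bot_iff_center_eq_top G).2
      (eq_top_iff.2 fun x _ => mem_center_iff.2 fun y => hab y x)
    rw [this, card_bot]
    exact one_dvd q
  obtain ⟨x₀, y₀, hxy₀⟩ := hab
  refine (card_dvd_of_le ?_).trans (hcard x₀)
  rw [_root_.commutator_def, Subgroup.commutator_le]
  intro x _ y _
  by_cases hxy : Commute x y
  · rw [commutatorElement_eq_one_iff_mul_comm.2 hxy]; exact one_mem _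
  obtain ⟨z, hz1, hz2⟩ := exists_not_mem_of_ne_top (A := centralizer ({x} : Set G))
    (B := centralizer ({x₀} : Set G))
    (fun h1 => hxy (mem_centralizer_singleton_iff.1 (h1.symm ▸ mem_top y)).symm)
    (fun h1 => hxy₀ (mem_centralizer_singleton_iff.1 (h1.symm ▸ mem_top y₀)).symm)
  rw [heq x₀ z (fun hc => hz2 (mem_centralizer_singleton_iff.2 hc.eq.symm)),
    ← heq x z (fun hc => hz1 (mem_centralizer_singleton_iff.2 hc.eq.symm))]
  exact ⟨y, rfl⟩

/-- The case of a trivial `q'`-core. -/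
theorem card_commutator_dvd_of_pPrimeCore {q : ℕ} [hq : Fact q.Prime]
    (hsq : ∀ x : G, Squarefree (centralizer ({x} : Set G)).index)
    (hG' : commutator G ≤ Cfsg.fittingSubgroup G) (hcyc : IsCyclic (G ⧸ Cfsg.pCore q G))
    (hnd : ¬q ∣ (Cfsg.pCore q G).index) (hcore : Cfsg.pPrimeCore q G = ⊥) :
    Nat.card (commutator G) ∣ q := by
  have hP : PrimarySquarefree G := fun x _ => hsq x
  set Q := Cfsg.pCore q G with hQ
  haveI : Q.Normal := pCore_normal' q
  have hsmall : ∀ x : G, (centralizer ({x} : Set G)).relIndex Q ∣ q := by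
    intro x
    obtain ⟨n, hn⟩ := IsPGroup.iff_card.1 (Cores.pCore_isPGroup (G := G) q)
    obtain ⟨j, -, hj⟩ := (Nat.dvd_prime_pow hq.out).1 (hn ▸ relIndex_dvd_card
      (centralizer ({x} : Set G)) Q)
    have hd := SylowNumbers.Basic.relIndex_dvd_index_of_normal_right (centralizer ({x} : Set G)) Q
    rw [hj] at hd ⊢
    exact (pow_dvd_pow q (eq_prime_of_dvd_squarefree hq.out (hsq x) hd)).trans (pow_one q).dvd
  have hQF : Q ≤ Cfsg.fittingSubgroup G := Cores.pCore_le_fittingSubgroup q
  have hQZ : ∀ {x y : G}, x ∈ Q → y ∈ Q → ⁅x, y⁆ ∈ center G := fun hx hy =>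
    commutator_fitting_mem_center hP (hQF hx) (hQF hy)
  by_cases hQtop : Q = ⊤
  · refine card_commutator_dvd_of_breadth (fun x y => ?_) fun x => ?_
    · exact hQZ (hQtop ▸ mem_top x) (hQtop ▸ mem_top y)
    · have := hsmall x
      rwa [hQtop, relIndex_top_right] at this
  obtain ⟨yb, hyb⟩ := IsCyclic.exists_zpow_surjective (G := G ⧸ Q)
  have hycop : (orderOf yb).Coprime q := by
    refine (hq.out.coprime_iff_not_dvd.2 fun hd => hnd ?_).symm
    exact hd.trans (orderOf_dvd_natCard yb)
  obtain ⟨h, hh, rfl⟩ := exists_lift_coprime (QuotientGroup.mk' Q) (QuotientGroup.mk'_surjective Q) hycop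
  have hgen : ∀ g : G, ∃ (i : ℤ), (h ^ i)⁻¹ * g ∈ Q := fun g => by
    obtain ⟨i, hi⟩ := hyb (g : G ⧸ Q)
    refine ⟨i, ?_⟩
    rw [← QuotientGroup.eq]
    simpa using hi
  have hcopQ : ∀ {x : G}, x ∈ Q → (orderOf h).Coprime (orderOf x) := fun hx => by
    obtain ⟨i, hi⟩ := TwoClassSizes.exists_orderOf_eq_pow (Cores.pCore_isPGroup q) hx
    exact hi ▸ hh.pow_right i
  have hkQ : ∀ {x : G}, x ∈ Q → ⁅h, x⁆ ∈ Q := fun {x} hx => by
    rw [commutatorElement_def]
    exact mul_mem ((inferInstance : Q.Normal).conj_mem x hx h) (inv_mem hx)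
  have hfix : ∀ {x : G}, x ∈ Q → Commute h ⁅h, x⁆ → Commute h x := fun hx hc =>
    commute_of_mod hc.eq (hcopQ (hkQ hx))
  obtain ⟨v, hv, hhv⟩ : ∃ v ∈ Q, ¬Commute h v := by
    by_contra hcon
    push Not at hcon
    have hcen : h ∈ center G := by
      refine mem_center_iff.2 fun g => ?_
      obtain ⟨i, hi⟩ := hgen g
      have := ((Commute.refl h).zpow_right i).mul_right (hcon _ hi)
      rw [mul_inv_cancel_left] at this
      exact this.eq.symm
    haveI : (zpowers h).Normal := ⟨fun z hz g => by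
      rw [mem_center_iff.1 (zpowers_le.2 hcen hz) g, mul_inv_cancel_right]; exact hz⟩
    have h1 : h ∈ Cfsg.pPrimeCore q G :=
      Cores.le_pPrimeCore (by rw [Nat.card_zpowers]; exact hh) (mem_zpowers h)
    rw [hcore, mem_bot] at h1
    refine hQtop (eq_top_iff.2 fun g _ => ?_)
    obtain ⟨i, hi⟩ := hgen g
    simpa [h1] using hi
  -- the fixed points of `h` are central in `Q`
  have hC : ∀ {c : G}, c ∈ Q → Commute h c → ∀ x ∈ Q, Commute c x := by
    intro c hc hhc
    have hcop := hcopQ hc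
    have hCC : ∀ x ∈ Q, Commute h x → Commute c x := by
      have h1 : ∀ z, Commute z (c * h) → Commute z c ∧ Commute z h := fun z hz =>
        ⟨TwoClassSizes.commute_of_coprime_mul hhc.symm hcop.symm hz,
          TwoClassSizes.commute_of_coprime_mul hhc hcop (hhc.eq.symm ▸ hz)⟩
      intro x hx hhx
      have hle : (centralizer ({c * h} : Set G)).subgroupOf Q ≤
          (centralizer ({h} : Set G)).subgroupOf Q := fun z hz =>
        mem_centralizer_singleton_iff.2 (h1 _ (mem_centralizer_singleton_iff.1 hz)).2.eq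
      have hne : ((centralizer ({h} : Set G)).subgroupOf Q).index ≠ 1 := fun he => hhv (by
        have : (⟨v, hv⟩ : Q) ∈ (centralizer ({h} : Set G)).subgroupOf Q :=
          Subgroup.index_eq_one.1 he ▸ mem_top _
        exact (mem_centralizer_singleton_iff.1 this).symm)
      have h2 := relIndex_mul_index hle
      rcases (Nat.dvd_prime hq.out).1 (hsmall h : _ ∣ q) with h3 | h3
      · exact absurd h3 hne
      have h4 := hsmall (c * h)
      change ((centralizer ({c * h} : Set G)).subgroupOf Q).index ∣ q at h4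
      rw [show ((centralizer ({h} : Set G)).subgroupOf Q).index = q from h3] at h2
      rcases (Nat.dvd_prime hq.out).1 h4 with h5 | h5
      · rw [h5] at h2; exact absurd (Nat.eq_one_of_mul_eq_one_left h2) hq.out.ne_one
      rw [h5, mul_eq_right₀ hq.out.ne_zero, relIndex_eq_one] at h2
      have h6 : (⟨x, hx⟩ : Q) ∈ (centralizer ({c * h} : Set G)).subgroupOf Q :=
        h2 (mem_subgroupOf.2 (mem_centralizer_singleton_iff.2 hhx.eq.symm))
      exact (h1 _ (mem_centralizer_singleton_iff.1 (mem_subgroupOf.1 h6))).1.symm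
    intro x hx
    by_contra hcx
    refine hcx (hCC x hx (hfix hx ?_))
    -- `⁅h, x⁆` commutes with `c`, so with `h`
    have hck : Commute c ⁅h, x⁆ := by
      have hz := hQZ hc hx
      have h1 : ⁅c, h * x * h⁻¹⁆ = ⁅c, x⁆ := by
        rw [show ⁅c, h * x * h⁻¹⁆ = h * ⁅h⁻¹ * c * h, x⁆ * h⁻¹ by
          simp only [commutatorElement_def]; group,
          show h⁻¹ * c * h = c by rw [mul_assoc, ← hhc.eq, inv_mul_cancel_left],
          mem_center_iff.1 hz h, mul_inv_cancel_right]
      have h2 : ⁅c, h * x * h⁻¹⁆ = ⁅c, ⁅h, x⁆⁆ * (⁅h, x⁆ * ⁅c, x⁆ * ⁅h, x⁆⁻¹) := by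
        simp only [commutatorElement_def]; group
      rw [h1, mem_center_iff.1 hz, mul_inv_cancel_right, right_eq_mul,
        commutatorElement_eq_one_iff_mul_comm] at h2
      exact h2
    set A := (centralizer ({h} : Set G)).subgroupOf Q with hA
    set B := (centralizer ({c} : Set G)).subgroupOf Q with hB
    have hAB : A ≤ B := fun z hz => mem_centralizer_singleton_iff.2
      (hCC z z.2 (mem_centralizer_singleton_iff.1 hz).symm).eq.symm
    have h3 := relIndex_mul_index hAB
    have hBne : B.index ≠ 1 := fun he => hcx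
      (mem_centralizer_singleton_iff.1 (Subgroup.index_eq_one.1 he ▸ mem_top _ :
        (⟨x, hx⟩ : Q) ∈ B)).symm
    have hB2 : B.index = q := ((Nat.dvd_prime hq.out).1 (hsmall c)).resolve_left hBne
    have h7 : A.index ∣ q := hsmall h
    rcases (Nat.dvd_prime hq.out).1 h7 with h4 | h4
    · rw [h4] at h3; exact absurd (Nat.eq_one_of_mul_eq_one_left h3) hBne
    rw [h4, hB2, mul_eq_right₀ hq.out.ne_zero, relIndex_eq_one] at h3
    exact (mem_centralizer_singleton_iff.1
      (h3 (mem_centralizer_singleton_iff.2 hck.eq.symm : (⟨_, hkQ hx⟩ : Q) ∈ B))).symm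
  have hQab : ∀ x ∈ Q, ∀ y ∈ Q, Commute x y := by
    intro x hx y hy
    by_contra hxy
    set A := (centralizer ({h} : Set G)).subgroupOf Q with hA
    set B := (centralizer ({x} : Set G)).subgroupOf Q with hB
    have hxA : ¬Commute h x := fun hc => hxy (hC hx hc y hy)
    have hAB : A ≤ B := fun z hz => mem_centralizer_singleton_iff.2
      (hC z.2 (mem_centralizer_singleton_iff.1 hz).symm x hx).eq
    have h3 := relIndex_mul_index hAB
    have hBne : B.index ≠ 1 := fun he => hxy
      (mem_centralizer_singleton_iff.1 (Subgroup.index_eq_one.1 he ▸ mem_top _ :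
        (⟨y, hy⟩ : Q) ∈ B)).symm
    have hB2 : B.index = q := ((Nat.dvd_prime hq.out).1 (hsmall x)).resolve_left hBne
    have h7 : A.index ∣ q := hsmall h
    rcases (Nat.dvd_prime hq.out).1 h7 with h4 | h4
    · rw [h4] at h3; exact absurd (Nat.eq_one_of_mul_eq_one_left h3) (hB2 ▸ hq.out.ne_one)
    rw [h4, hB2, mul_eq_right₀ hq.out.ne_zero, relIndex_eq_one] at h3
    exact hxA (mem_centralizer_singleton_iff.1
      (h3 (mem_centralizer_singleton_iff.2 rfl : (⟨x, hx⟩ : Q) ∈ B))).symm
  let φ : Q →* G :=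
    { toFun := fun x => ⁅h, (x : G)⁆
      map_one' := commutatorElement_one_right _
      map_mul' := fun x y => by
        show ⁅h, ((x : G) * y)⁆ = ⁅h, (x : G)⁆ * ⁅h, (y : G)⁆
        rw [show ⁅h, ((x : G) * y)⁆ = ⁅h, (x : G)⁆ * ((x : G) * ⁅h, (y : G)⁆ * (x : G)⁻¹) by
          simp only [commutatorElement_def]; group,
          (hQab x x.2 _ (hkQ y.2)).eq, mul_inv_cancel_right] }
  set D := φ.range with hD
  have hDQ : D ≤ Q := by rintro _ ⟨x, rfl⟩; exact hkQ x.2
  have hDcard : Nat.card D ∣ q := by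
    rw [hD, ← index_ker, show φ.ker = (centralizer ({h} : Set G)).subgroupOf Q from ?_]
    · exact hsmall h
    ext x
    rw [MonoidHom.mem_ker, mem_subgroupOf, mem_centralizer_singleton_iff]
    exact commutatorElement_eq_one_iff_mul_comm.trans eq_comm
  refine (card_dvd_of_le ?_).trans hDcard
  haveI : D.Normal := by
    refine ⟨fun d hd g => ?_⟩
    obtain ⟨i, hi⟩ := hgen g
    obtain ⟨x, rfl⟩ := hd
    rw [show g * φ x * g⁻¹ =
      h ^ i * (((h ^ i)⁻¹ * g) * φ x * ((h ^ i)⁻¹ * g)⁻¹) * (h ^ i)⁻¹ by group,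
      (hQab _ hi (φ x) (hkQ x.2)).eq, mul_inv_cancel_right]
    refine ⟨⟨h ^ i * x * (h ^ i)⁻¹, (inferInstance : Q.Normal).conj_mem _ x.2 _⟩, ?_⟩
    show ⁅h, h ^ i * (x : G) * (h ^ i)⁻¹⁆ = h ^ i * ⁅h, (x : G)⁆ * (h ^ i)⁻¹
    simp only [commutatorElement_def]
    group
  rw [← QuotientGroup.ker_mk' D, _root_.commutator_def, Subgroup.commutator_le]
  intro x _ y _
  rw [MonoidHom.mem_ker, map_commutatorElement, commutatorElement_eq_one_iff_mul_comm]
  set π := QuotientGroup.mk' D with hπ
  have hh' : ∀ z ∈ Q, Commute (π h) (π z) := fun z hz => by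
    refine commutatorElement_eq_one_iff_mul_comm.1 ?_
    rw [← map_commutatorElement]
    exact (QuotientGroup.eq_one_iff _).2 ⟨⟨z, hz⟩, rfl⟩
  obtain ⟨i, hi⟩ := hgen x
  obtain ⟨j, hj⟩ := hgen y
  rw [show π x = π h ^ i * π ((h ^ i)⁻¹ * x) by rw [← map_zpow, ← map_mul, mul_inv_cancel_left],
    show π y = π h ^ j * π ((h ^ j)⁻¹ * y) by rw [← map_zpow, ← map_mul, mul_inv_cancel_left]]
  exact (((Commute.refl (π h)).zpow_zpow i j).mul_right ((hh' _ hj).zpow_left i)).mul_left
    (((hh' _ hi).symm.zpow_right j).mul_right ((hQab _ hi _ hj).map π))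

end Cfsg.Agent.Lib.SquarefreeClass
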