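import Mathlib
import Cfsg.Agent.Lib.SquarefreeClass.Derived

/-!
# Structure of finite groups with square-free class sizes
-/

set_option autoImplicit false

namespace Cfsg.Agent.Lib.SquarefreeClass

open Subgroup
open scoped commutatorElement

universe u

/-- In a group with trivial `q'`-core and `G' ≤ F(G)`, the core `O_q(G)` is a Sylow subgroup. -/
theorem not_dvd_index_pCore {H : Type u} [Group H] [Finite H] {q : ℕ} [hq : Fact q.Prime]
    (hG' : commutator H ≤ Cfsg.fittingSubgroup H) (hcore : Cfsg.pPrimeCore q H = ⊥) :
    ¬q ∣ (Cfsg.pCore q H).index ∧ Cfsg.fittingSubgroup H = Cfsg.pCore q H := by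
  have hF : Cfsg.fittingSubgroup H = Cfsg.pCore q H := by
    refine le_antisymm (fun f hf => TwoClassSizes.mem_of_primary_parts fun s hs a ha ⟨k, hk⟩ => ?_)
      (Cores.pCore_le_fittingSubgroup q)
    haveI := Fact.mk hs
    by_cases hsq : s = q
    · subst hsq; exact mem_pCore_of_mem_fitting (zpowers_le.2 hf ha) ⟨k, hk⟩
    · haveI := pCore_normal' (G := H) s
      have h1 : Cfsg.pCore s H ≤ Cfsg.pPrimeCore q H := by
        refine Cores.le_pPrimeCore ?_
        obtain ⟨n, hn⟩ := IsPGroup.iff_card.1 (Cores.pCore_isPGroup (G := H) s)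
        rw [hn]
        exact ((Nat.coprime_primes hs hq.out).2 hsq).pow_left n
      rw [hcore] at h1
      rw [mem_bot.1 (h1 (mem_pCore_of_mem_fitting (zpowers_le.2 hf ha) ⟨k, hk⟩))]
      exact one_mem _
  refine ⟨?_, hF⟩
  haveI := pCore_normal' (G := H) q
  obtain ⟨P, hP⟩ := (Cores.pCore_isPGroup (G := H) q).exists_le_sylow
  haveI : (P : Subgroup H).Normal := by
    refine ⟨fun x hx g => ?_⟩
    rw [show g * x * g⁻¹ = ⁅g, x⁆ * x by rw [commutatorElement_def]; group]
    exact mul_mem (hP (hF ▸ hG' (Subgroup.commutator_mem_commutator (mem_top g) (mem_top x)))) hx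
  rw [le_antisymm hP (Cores.le_pCore P.2)]
  exact P.not_dvd_index

variable {G : Type u} [Group G] [Finite G]

theorem squarefree_index_fitting (hsq : ∀ x : G, Squarefree (centralizer ({x} : Set G)).index)
    (hG' : commutator G ≤ Cfsg.fittingSubgroup G) : Squarefree (Cfsg.fittingSubgroup G).index :=
  Nat.squarefree_iff_prime_squarefree.2 fun r hr hd => by
    haveI := Fact.mk hr
    exact not_sq_dvd_index (r := r) hsq hG' ((pow_two r).symm ▸ hd)

/-- A group with square-free class sizes is supersolvable. -/
theorem isSupersolvable' (hsq : ∀ x : G, Squarefree (centralizer ({x} : Set G)).index) :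
    Cfsg.IsSupersolvable G :=
  haveI := isSolvable hsq
  isSupersolvable fun x _ => hsq x

theorem commutator_le_fitting' (hsq : ∀ x : G, Squarefree (centralizer ({x} : Set G)).index) :
    commutator G ≤ Cfsg.fittingSubgroup G :=
  commutator_le_fitting (isSupersolvable' hsq)

theorem isCyclic_quotient_fitting (hsq : ∀ x : G, Squarefree (centralizer ({x} : Set G)).index)
    [(Cfsg.fittingSubgroup G).Normal] : IsCyclic (G ⧸ Cfsg.fittingSubgroup G) := by
  have hG' := commutator_le_fitting' hsq
  haveI : IsZGroup (G ⧸ Cfsg.fittingSubgroup G) :=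
    IsZGroup.of_squarefree (squarefree_index_fitting hsq hG')
  haveI := (Subgroup.Normal.quotient_commutative_iff_commutator_le).2 hG'
  haveI : Group.IsNilpotent (G ⧸ Cfsg.fittingSubgroup G) := by
    letI : CommGroup (G ⧸ Cfsg.fittingSubgroup G) :=
      { (inferInstance : Group (G ⧸ Cfsg.fittingSubgroup G)) with
        mul_comm := fun a b => this.is_comm.comm a b }
    infer_instance
  infer_instance

theorem squarefree_card_commutator (hsq : ∀ x : G, Squarefree (centralizer ({x} : Set G)).index) :
    Squarefree (Nat.card (commutator G)) := by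
  refine Nat.squarefree_iff_prime_squarefree.2 fun q hq hd => ?_
  haveI := Fact.mk hq
  set M := Cfsg.pPrimeCore q G with hM
  set f := QuotientGroup.mk' M with hf
  have hfs : Function.Surjective f := QuotientGroup.mk'_surjective M
  have hsq' : ∀ y : G ⧸ M, Squarefree (centralizer ({y} : Set (G ⧸ M))).index := fun y => by
    obtain ⟨x, rfl⟩ := hfs y
    exact (hsq x).squarefree_of_dvd (index_centralizer_map_dvd f hfs x)
  have hG' := commutator_le_fitting' hsq'
  have hcore := Cores.pPrimeCore_quotient_pPrimeCore (G := G) q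
  obtain ⟨hnd, hF⟩ := not_dvd_index_pCore hG' hcore
  haveI := pCore_normal' (G := G ⧸ M) q
  haveI : (Cfsg.fittingSubgroup (G ⧸ M)).Normal := fitting_normal'
  haveI := isCyclic_quotient_fitting hsq'
  have hcyc : IsCyclic ((G ⧸ M) ⧸ Cfsg.pCore q (G ⧸ M)) :=
    isCyclic_of_surjective (QuotientGroup.quotientMulEquivOfEq hF)
      (QuotientGroup.quotientMulEquivOfEq hF).surjective
  have hbar := card_commutator_dvd_of_pPrimeCore hsq' hG' hcyc hnd hcore
  have himg : (commutator G).map f = commutator (G ⧸ M) := by
    rw [_root_.commutator_def, _root_.commutator_def, Subgroup.map_commutator,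
      map_top_of_surjective f hfs]
  -- orders: kernel part prime to `q`
  have hcard : Nat.card (commutator G) =
      M.relIndex (commutator G) * Nat.card (M ⊓ commutator G : Subgroup G) := by
    rw [← inf_relIndex_right, ← relIndex_bot_left (commutator G),
      ← relIndex_bot_left (M ⊓ commutator G), mul_comm,
      relIndex_mul_relIndex _ _ _ bot_le inf_le_right]
  have hrel : M.relIndex (commutator G) = Nat.card (commutator (G ⧸ M)) := by
    rw [← himg, ← relIndex_bot_left ((commutator G).map f), ← QuotientGroup.map_mk'_self M,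
      relIndex_map_map, QuotientGroup.ker_mk', sup_idem, relIndex_sup_right]
  have hcop : (q * q).Coprime (Nat.card (M ⊓ commutator G : Subgroup G)) := by
    have h1 := (Cores.pPrimeCore_coprime (G := G) q).coprime_dvd_left
      (card_dvd_of_le (inf_le_left : M ⊓ commutator G ≤ M))
    exact h1.symm.mul_left h1.symm
  rw [hcard, hrel] at hd
  have := Nat.le_of_dvd hq.pos ((hcop.dvd_of_dvd_mul_right hd).trans hbar)
  have := hq.two_le
  nlinarith

theorem isCyclic_commutator (hsq : ∀ x : G, Squarefree (centralizer ({x} : Set G)).index) :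
    IsCyclic (commutator G) := by
  haveI : IsZGroup (commutator G) := IsZGroup.of_squarefree (squarefree_card_commutator hsq)
  haveI := Supersolvable.isNilpotent_commutator (isSupersolvable' hsq)
  infer_instance

end Cfsg.Agent.Lib.SquarefreeClass
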